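import Mathlib

/-!
# An element of order three with small image, acting on a coprime subgroup

Averaging over a subgroup normalised without fixed points by such an element `b` gives back a
multiple of the identity from the conjugates of `1 + b + b²`.
-/

set_option autoImplicit false
set_option linter.unusedSectionVars false
set_option linter.style.haveILetI false

namespace CfsgLib.CubicBlock

open Subgroup LinearMap

variable {S : Type*} [Group S] [Finite S] {E : Type*} [AddCommGroup E] [Module (ZMod 3) E]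
  (ρ : Representation (ZMod 3) S E)

theorem rho_mul (x y : S) (v : E) : ρ (x * y) v = ρ x (ρ y v) := by
  rw [map_mul]; rfl

theorem rho_inv_apply (x : S) (v : E) : ρ x⁻¹ (ρ x v) = v := by
  rw [← rho_mul, inv_mul_cancel, map_one]; rfl

theorem rho_apply_inv (x : S) (v : E) : ρ x (ρ x⁻¹ v) = v := by
  rw [← rho_mul, mul_inv_cancel, map_one]; rfl

section Avg

variable (W : Subgroup S)

/-- The average of a subgroup. -/
noncomputable def avg : E →ₗ[ZMod 3] E :=
  haveI := Fintype.ofFinite W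
  ((Nat.card W : ZMod 3))⁻¹ • ∑ w : W, ρ w

/-- The submodule killed by the average. -/
noncomputable def mov : Submodule (ZMod 3) E := LinearMap.ker (avg ρ W)

theorem avg_apply [Fintype W] (v : E) :
    avg ρ W v = ((Nat.card W : ZMod 3))⁻¹ • ∑ w : W, ρ w v := by
  simp only [avg, LinearMap.smul_apply, LinearMap.sum_apply]
  congr 1
  exact Finset.sum_congr (by ext; simp) fun _ _ => rfl

variable (h3 : ¬ 3 ∣ Nat.card W)

include h3

theorem card_ne_zero : (Nat.card W : ZMod 3) ≠ 0 := fun h =>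
  h3 ((ZMod.natCast_eq_zero_iff _ _).1 h)

theorem avg_eq_self {v : E} (h : ∀ w ∈ W, ρ w v = v) : avg ρ W v = v := by
  haveI := Fintype.ofFinite W
  rw [avg_apply, Finset.sum_congr rfl fun (w : W) _ => h w w.2, Finset.sum_const,
    Finset.card_univ, ← Nat.card_eq_fintype_card, ← Nat.cast_smul_eq_nsmul (ZMod 3), smul_smul,
    inv_mul_cancel₀ (card_ne_zero W h3), one_smul]

theorem rho_avg {w : S} (hw : w ∈ W) (v : E) : ρ w (avg ρ W v) = avg ρ W v := by
  haveI := Fintype.ofFinite W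
  rw [avg_apply, map_smul, map_sum]
  congr 1
  refine Fintype.sum_bijective _ (Group.mulLeft_bijective (⟨w, hw⟩ : W)) _ _ fun x => ?_
  rw [← rho_mul]; rfl

theorem avg_rho {w : S} (hw : w ∈ W) (v : E) : avg ρ W (ρ w v) = avg ρ W v := by
  haveI := Fintype.ofFinite W
  rw [avg_apply, avg_apply]
  congr 1
  refine Fintype.sum_bijective _ (Group.mulRight_bijective (⟨w, hw⟩ : W)) _ _ fun x => ?_
  rw [← rho_mul]; rfl

theorem avg_avg (v : E) : avg ρ W (avg ρ W v) = avg ρ W v :=
  avg_eq_self ρ W h3 fun _ hw => rho_avg ρ W h3 hw v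

theorem avg_comm {g : S} (hg : g ∈ normalizer (W : Set S)) (v : E) :
    avg ρ W (ρ g v) = ρ g (avg ρ W v) := by
  haveI := Fintype.ofFinite W
  rw [avg_apply, avg_apply, map_smul, map_sum]
  congr 1
  let e : W → W := fun w => ⟨g⁻¹ * w * g, by
    have := (mem_normalizer_iff.1 hg (g⁻¹ * w * g)).2 (by
      rw [show g * (g⁻¹ * (w : S) * g) * g⁻¹ = w by group]; exact w.2)
    exact this⟩
  have he : Function.Bijective e := Finite.injective_iff_bijective.1 fun a b h => Subtype.ext (by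
    have := congrArg Subtype.val h
    simpa [e] using this)
  refine Fintype.sum_bijective e he _ _ fun w => ?_
  rw [← rho_mul, ← rho_mul]
  congr 2
  show (w : S) * g = g * (g⁻¹ * w * g)
  group

theorem mov_invariant {g : S} (hg : g ∈ normalizer (W : Set S)) {v : E} (hv : v ∈ mov ρ W) :
    ρ g v ∈ mov ρ W := by
  simp only [mov, mem_ker] at hv ⊢
  rw [avg_comm ρ W h3 hg, hv, map_zero]

theorem sub_avg_mem (v : E) : v - avg ρ W v ∈ mov ρ W := by
  simp only [mov, mem_ker, map_sub, avg_avg ρ W h3, sub_self]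

theorem rho_sub_mem {w : S} (hw : w ∈ W) (v : E) : ρ w v - v ∈ mov ρ W := by
  simp only [mov, mem_ker, map_sub, avg_rho ρ W h3 hw, sub_self]

theorem eq_zero_of_mem_mov {v : E} (hv : v ∈ mov ρ W) (h : ∀ w ∈ W, ρ w v = v) : v = 0 :=
  (avg_eq_self ρ W h3 h).symm.trans (mem_ker.1 hv)

/-- What is trivial on the moved part is trivial. -/
theorem rho_eq_one_of_forall_mov {w : S} (hw : w ∈ W) (h : ∀ v ∈ mov ρ W, ρ w v = v) : ρ w = 1 := by
  refine LinearMap.ext fun v => ?_
  have := h _ (sub_avg_mem ρ W h3 v)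
  rw [map_sub, rho_avg ρ W h3 hw] at this
  exact sub_left_injective this

end Avg

section Cubic

variable {b : S} (W : Subgroup S)

/-- `1 + b + b²`, which is `(b - 1)²` in characteristic three. -/
def norm3 (b : S) : E →ₗ[ZMod 3] E := 1 + ρ b + ρ (b * b)

theorem norm3_eq (v : E) : norm3 ρ b v = ρ b (ρ b v - v) - (ρ b v - v) := by
  simp only [norm3, LinearMap.add_apply, Module.End.one_apply, map_sub, rho_mul]
  have h : (3 : ℕ) • ρ b v = 0 := by
    rw [← Nat.cast_smul_eq_nsmul (ZMod 3), show ((3 : ℕ) : ZMod 3) = 0 by decide, zero_smul]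
  rw [← sub_eq_zero]
  calc v + ρ b v + ρ b (ρ b v) - (ρ b (ρ b v) - ρ b v - (ρ b v - v))
      = (3 : ℕ) • ρ b v := by abel
    _ = 0 := h

/-- Averaging the conjugates of `1 + b + b²`. -/
theorem avg_identity (h3 : ¬ 3 ∣ Nat.card W) (hbW : b ∈ normalizer (W : Set S))
    (hb3 : b ^ 3 = 1) (hfpf : ∀ w ∈ W, b * w = w * b → w = 1) [Fintype W]
    {v : E} (hv : v ∈ mov ρ W) :
    ∑ a : W, ρ (a : S) (norm3 ρ b (ρ (a : S)⁻¹ v)) = (Nat.card W : ZMod 3) • v := by
  have key : ∀ c : S, c ∈ normalizer (W : Set S) → (∀ w ∈ W, c * w = w * c → w = 1) →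
      ∑ a : W, ρ (a : S) (ρ c (ρ (a : S)⁻¹ v)) = 0 := by
    intro c hc hf
    let f : W → W := fun a => ⟨(a : S) * (c * (a : S)⁻¹ * c⁻¹),
      mul_mem a.2 ((mem_normalizer_iff.1 hc _).1 (inv_mem a.2))⟩
    have hbij : Function.Bijective f := Finite.injective_iff_bijective.1 fun a a' h => by
      have h' : (a : S) * (c * (a : S)⁻¹ * c⁻¹) = (a' : S) * (c * (a' : S)⁻¹ * c⁻¹) :=
        congrArg Subtype.val h
      have := hf _ (mul_mem (inv_mem a'.2) a.2) (by
        calc c * ((a' : S)⁻¹ * a) = c * (a' : S)⁻¹ * c⁻¹ * (c * a) := by group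
          _ = (a' : S)⁻¹ * ((a' : S) * (c * (a' : S)⁻¹ * c⁻¹)) * (c * a) := by group
          _ = (a' : S)⁻¹ * a * c := by rw [← h']; group)
      exact Subtype.ext (inv_mul_eq_one.1 this).symm
    have : ∑ a : W, ρ (a : S) (ρ c (ρ (a : S)⁻¹ v)) = ∑ w : W, ρ (w : S) (ρ c v) :=
      Fintype.sum_bijective f hbij _ _ fun a => by
        rw [← rho_mul, ← rho_mul, ← rho_mul]
        congr 2
        show (a : S) * c * (a : S)⁻¹ = (a : S) * (c * (a : S)⁻¹ * c⁻¹) * c
        group
    rw [this]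
    have h0 := mem_ker.1 (mov_invariant ρ W h3 hc hv)
    rw [avg_apply] at h0
    exact (smul_eq_zero.1 h0).resolve_left (inv_ne_zero (card_ne_zero W h3))
  have hbb : b * b ∈ normalizer (W : Set S) := mul_mem hbW hbW
  have hfpf2 : ∀ w ∈ W, (b * b) * w = w * (b * b) → w = 1 := by
    intro w hw h
    refine hfpf w hw ?_
    have h2 : Commute (b * b) w := h
    have h4 : Commute ((b * b) * (b * b)) w := h2.mul_left h2
    rwa [show (b * b) * (b * b) = b ^ 3 * b by simp only [pow_succ, pow_zero, one_mul, mul_assoc], hb3, one_mul] at h4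
  calc ∑ a : W, ρ (a : S) (norm3 ρ b (ρ (a : S)⁻¹ v))
      = ∑ a : W, (v + ρ (a : S) (ρ b (ρ (a : S)⁻¹ v)) + ρ (a : S) (ρ (b * b) (ρ (a : S)⁻¹ v))) :=
        Finset.sum_congr rfl fun a _ => by
          simp only [norm3, LinearMap.add_apply, Module.End.one_apply, map_add, rho_apply_inv]
    _ = _ := by
      rw [Finset.sum_add_distrib, Finset.sum_add_distrib, key b hbW hfpf, key _ hbb hfpf2,
        add_zero, add_zero, Finset.sum_const, Finset.card_univ, ← Nat.card_eq_fintype_card,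
        Nat.cast_smul_eq_nsmul]

/-- A submodule on which `(b - 1)²` vanishes does not see the moved part. -/
theorem mem_of_norm3_mem (h3 : ¬ 3 ∣ Nat.card W) (hbW : b ∈ normalizer (W : Set S))
    (hb3 : b ^ 3 = 1) (hfpf : ∀ w ∈ W, b * w = w * b → w = 1) (M N : Submodule (ZMod 3) E)
    (hM : ∀ w ∈ W, ∀ v ∈ M, ρ w v ∈ M) (hN : ∀ w ∈ W, ∀ v ∈ N, ρ w v ∈ N)
    (h : ∀ v ∈ M, norm3 ρ b v ∈ N) {v : E} (hvM : v ∈ M) (hv : v ∈ mov ρ W) : v ∈ N := by
  haveI := Fintype.ofFinite W
  have h1 := avg_identity ρ W h3 hbW hb3 hfpf hv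
  have h2 : (Nat.card W : ZMod 3) • v ∈ N := h1 ▸
    Submodule.sum_mem _ fun a _ => hN a a.2 _ (h _ (hM _ (inv_mem a.2) v hvM))
  exact (N.smul_mem_iff (card_ne_zero W h3)).1 h2

/-- Image bounds for a product. -/
theorem finrank_range_mul_sub_le [Module.Finite (ZMod 3) E] (x y : S) :
    Module.finrank (ZMod 3) (range (ρ (x * y) - 1)) ≤
      Module.finrank (ZMod 3) (range (ρ x - 1)) + Module.finrank (ZMod 3) (range (ρ y - 1)) := by
  refine le_trans (Submodule.finrank_mono ?_) (Submodule.finrank_add_le_finrank_add_finrank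
    (range (ρ x - 1)) (range (ρ y - 1)))
  rintro _ ⟨v, rfl⟩
  refine Submodule.mem_sup.2 ⟨_, ⟨ρ y v, rfl⟩, _, ⟨v, rfl⟩, ?_⟩
  simp [rho_mul]

theorem finrank_range_conj_sub [Module.Finite (ZMod 3) E] (g x : S) :
    Module.finrank (ZMod 3) (range (ρ (g * x * g⁻¹) - 1)) =
      Module.finrank (ZMod 3) (range (ρ x - 1)) := by
  have h : range (ρ (g * x * g⁻¹) - 1) = (range (ρ x - 1)).map (ρ g) := by
    ext v
    constructor
    · rintro ⟨u, rfl⟩
      refine ⟨_, ⟨ρ g⁻¹ u, rfl⟩, ?_⟩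
      simp [rho_mul, rho_apply_inv]
    · rintro ⟨_, ⟨u, rfl⟩, rfl⟩
      refine ⟨ρ g u, ?_⟩
      simp [rho_mul, rho_inv_apply]
  rw [h]
  exact (Submodule.equivMapOfInjective (ρ g) (Function.LeftInverse.injective (rho_inv_apply ρ g))
    _).finrank_eq.symm

theorem finrank_range_inv_sub [Module.Finite (ZMod 3) E] (x : S) :
    Module.finrank (ZMod 3) (range (ρ x⁻¹ - 1)) = Module.finrank (ZMod 3) (range (ρ x - 1)) := by
  have h : range (ρ x⁻¹ - 1) = range (ρ x - 1) := by
    ext v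
    constructor
    · rintro ⟨u, rfl⟩
      exact ⟨-(ρ x⁻¹ u), by simp [rho_apply_inv]; abel⟩
    · rintro ⟨u, rfl⟩
      exact ⟨-(ρ x u), by simp [rho_inv_apply]; abel⟩
  rw [h]

theorem rho_norm3 (hb3 : b ^ 3 = 1) (v : E) : ρ b (norm3 ρ b v) = norm3 ρ b v := by
  have e : b * (b * b) = 1 := by rw [← hb3]; simp only [pow_succ, pow_zero, one_mul, mul_assoc]
  have h : ρ b (ρ (b * b) v) = v := by rw [← rho_mul, e, map_one]; rfl
  simp only [norm3, LinearMap.add_apply, Module.End.one_apply, map_add, h]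
  rw [← rho_mul]
  abel

/-- A cubic block: `b - 1` has rank at most two and `(b - 1)²` at most one. -/
structure Cubic (b : S) : Prop where
  ord : b ^ 3 = 1
  rank : Module.finrank (ZMod 3) (range (ρ b - 1)) ≤ 2
  line : Module.finrank (ZMod 3) (range (norm3 ρ b)) ≤ 1

/-- An abelian subgroup moved by `b` moves at most three dimensions. -/
theorem Cubic.abelian [Module.Finite (ZMod 3) E] (hc : Cubic ρ b) (h3 : ¬ 3 ∣ Nat.card W)
    (hbW : b ∈ normalizer (W : Set S)) (hfpf : ∀ w ∈ W, b * w = w * b → w = 1)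
    (hab : ∀ x ∈ W, ∀ y ∈ W, x * y = y * x) :
    Module.finrank (ZMod 3) (mov ρ W) ≤ 3 ∧
      ∃ v ∈ mov ρ W, ∀ w ∈ W, ρ w v = v → ρ w = 1 := by
  classical
  haveI := Fintype.ofFinite W
  set M := mov ρ W with hMdef
  have hbM : ∀ v ∈ M, ρ b v ∈ M := fun v hv => mov_invariant ρ W h3 hbW hv
  have hWM : ∀ w ∈ W, ∀ v ∈ M, ρ w v ∈ M :=
    fun w hw v hv => mov_invariant ρ W h3 (le_normalizer hw) hv
  have hNM : ∀ v ∈ M, norm3 ρ b v ∈ M := fun v hv => by
    simp only [norm3, LinearMap.add_apply, Module.End.one_apply, rho_mul]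
    exact add_mem (add_mem hv (hbM v hv)) (hbM _ (hbM v hv))
  by_cases h0 : ∀ v ∈ M, norm3 ρ b v = 0
  · have hM : M = ⊥ := (Submodule.eq_bot_iff _).2 fun v hv =>
      (Submodule.mem_bot (ZMod 3)).1 (mem_of_norm3_mem ρ W h3 hbW hc.ord hfpf M ⊥ hWM
        (fun w _ u hu => by rw [Submodule.mem_bot] at hu ⊢; rw [hu, map_zero])
        (fun u hu => by rw [Submodule.mem_bot]; exact h0 u hu) hv hv)
    refine ⟨by rw [hM, finrank_bot]; omega, 0, zero_mem _, fun w hw _ => ?_⟩
    exact rho_eq_one_of_forall_mov ρ W h3 hw fun v hv => by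
      rw [← hMdef, hM, Submodule.mem_bot] at hv; rw [hv, map_zero]
  push Not at h0
  obtain ⟨c, hc', hne⟩ := h0
  set v := norm3 ρ b c with hv
  have hline : ∀ u, ∃ k : ZMod 3, norm3 ρ b u = k • v := by
    intro u
    have hle : range (norm3 ρ b) ≤ Submodule.span (ZMod 3) {v} := by
      refine (Submodule.eq_of_le_of_finrank_le ?_ ?_).ge
      · exact (Submodule.span_singleton_le_iff_mem _ _).2 ⟨c, rfl⟩
      · rw [finrank_span_singleton hne]; exact hc.line
    obtain ⟨k, hk⟩ := Submodule.mem_span_singleton.1 (hle ⟨u, rfl⟩)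
    exact ⟨k, hk.symm⟩
  -- the orbit of `v` spans
  set T := Submodule.span (ZMod 3) (Set.range fun w : W => ρ (w : S) v) with hT
  have hTW : ∀ w ∈ W, ∀ u ∈ T, ρ w u ∈ T := by
    intro w hw u hu
    have : T.map (ρ w) ≤ T := by
      rw [hT, Submodule.map_span, Submodule.span_le]
      rintro _ ⟨_, ⟨x, rfl⟩, rfl⟩
      exact Submodule.subset_span ⟨⟨w * x, mul_mem hw x.2⟩, by simp [rho_mul]⟩
    exact this ⟨u, hu, rfl⟩
  have hspan : ∀ u ∈ M, u ∈ T := fun u hu =>
    mem_of_norm3_mem ρ W h3 hbW hc.ord hfpf M T hWM hTW (fun x _ => by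
      obtain ⟨k, hk⟩ := hline x
      rw [hk]
      exact T.smul_mem k (Submodule.subset_span ⟨1, by simp⟩)) hu hu
  have hker : ∀ x ∈ M, ρ b x = x → ∃ k : ZMod 3, x = k • v := by
    intro x hx hbx
    obtain ⟨a, ha⟩ := (Submodule.mem_span_range_iff_exists_fun (ZMod 3)).1 (hspan x hx)
    let f : E →ₗ[ZMod 3] E := ∑ w : W, a w • ρ (w : S)
    have hf : ∀ u, f u = ∑ w : W, a w • ρ (w : S) u := fun u => by
      simp [f, LinearMap.sum_apply]
    have hfv : f v = x := (hf v).trans ha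
    have hfw : ∀ w ∈ W, ∀ u, f (ρ w u) = ρ w (f u) := by
      intro w hw u
      rw [hf, hf, map_sum]
      refine Finset.sum_congr rfl fun y _ => ?_
      rw [map_smul, ← rho_mul, ← rho_mul, hab _ y.2 w hw]
    have hfT : f ∘ₗ (ρ b) ∘ₗ (Submodule.subtype T) = (ρ b) ∘ₗ f ∘ₗ (Submodule.subtype T) := by
      refine LinearMap.ext_on_range (v := fun w : W => (⟨ρ (w : S) v, Submodule.subset_span ⟨w, rfl⟩⟩ : T))
        ?_ fun w => ?_
      · rw [eq_top_iff]
        rintro ⟨u, hu⟩ -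
        have : u ∈ Submodule.map T.subtype (Submodule.span (ZMod 3)
            (Set.range fun w : W => (⟨ρ (w : S) v, Submodule.subset_span ⟨w, rfl⟩⟩ : T))) := by
          rw [Submodule.map_span, ← Set.range_comp]
          exact hu
        obtain ⟨u', hu', e⟩ := this
        rwa [show (⟨u, hu⟩ : T) = u' from Subtype.ext e.symm]
      have hw' : b * (w : S) * b⁻¹ ∈ W := (mem_normalizer_iff.1 hbW _).1 w.2
      have hbv : ρ b v = v := rho_norm3 ρ hc.ord c
      have e : ∀ u, ρ b (ρ (w : S) u) = ρ (b * (w : S) * b⁻¹) (ρ b u) := fun u => by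
        rw [← rho_mul, ← rho_mul, inv_mul_cancel_right]
      simp only [LinearMap.comp_apply, Submodule.subtype_apply]
      rw [e, hfw _ hw', hbv, hfv, hfw _ w.2, hfv, e, hbx]
    obtain ⟨k, hk⟩ := hline (f c)
    refine ⟨k, ?_⟩
    have hcomm : ∀ u ∈ T, f (ρ b u) = ρ b (f u) := fun u hu => LinearMap.congr_fun hfT ⟨u, hu⟩
    have hfN : f v = norm3 ρ b (f c) := by
      rw [hv]
      simp only [norm3, LinearMap.add_apply, Module.End.one_apply, map_add, rho_mul]
      rw [hcomm c (hspan c hc'), hcomm _ (hspan _ (hbM c hc')), hcomm c (hspan c hc')]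
    rw [← hk, ← hfN, hfv]
  have hvM : v ∈ M := hNM c hc'
  refine ⟨?_, v, hvM, fun w hw hwv => ?_⟩
  · set g := (ρ b - 1).comp M.subtype with hg
    have h1 := LinearMap.finrank_range_add_finrank_ker g
    have h2 : Module.finrank (ZMod 3) (range g) ≤ 2 :=
      le_trans (Submodule.finrank_mono (by rw [hg]; exact LinearMap.range_comp_le_range _ _)) hc.rank
    have h3' : Module.finrank (ZMod 3) (ker g) ≤ 1 := by
      refine finrank_le_one (⟨⟨v, hvM⟩, ?_⟩) fun ⟨⟨x, hx⟩, hgx⟩ => ?_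
      · simp only [hg, mem_ker, LinearMap.comp_apply, Submodule.subtype_apply, LinearMap.sub_apply,
          Module.End.one_apply, sub_eq_zero]
        exact rho_norm3 ρ hc.ord c
      · obtain ⟨k, hk⟩ := hker x hx (sub_eq_zero.1 hgx)
        exact ⟨k, Subtype.ext (Subtype.ext hk.symm)⟩
    omega
  · refine rho_eq_one_of_forall_mov ρ W h3 hw fun u hu => ?_
    obtain ⟨a, ha⟩ := (Submodule.mem_span_range_iff_exists_fun (ZMod 3)).1 (hspan u hu)
    rw [← ha, map_sum]
    refine Finset.sum_congr rfl fun y _ => ?_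
    rw [map_smul, ← rho_mul, hab w hw y y.2, rho_mul, hwv]

end Cubic

end CfsgLib.CubicBlock
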