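import Cfsg.Agent.Lib.CubicBlock.Group

/-!
# Small general linear groups in characteristic three
-/

set_option autoImplicit false
set_option linter.unusedSectionVars false
set_option linter.style.haveILetI false

namespace CfsgLib.CubicBlock

open Subgroup LinearMap

theorem card_units_end (V : Type*) [AddCommGroup V] [Module (ZMod 3) V] [Finite V] :
    Nat.card (V →ₗ[ZMod 3] V)ˣ =
      ∏ i : Fin (Module.finrank (ZMod 3) V), (3 ^ Module.finrank (ZMod 3) V - 3 ^ (i : ℕ)) := by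
  haveI : Module.Finite (ZMod 3) V := Module.Finite.of_finite
  have e := (Units.mapEquiv (algEquivMatrix (Module.finBasis (ZMod 3) V)).toMulEquiv).toEquiv
  rw [Nat.card_congr e]
  have := Matrix.card_GL_field (𝔽 := ZMod 3) (Module.finrank (ZMod 3) V)
  rw [ZMod.card] at this
  exact this

/-- The orders of the odd-prime parts are cube free. -/
theorem not_cube_dvd {q d : ℕ} (hq : q.Prime) (h2 : q ≠ 2) (h3 : q ≠ 3) (hd : d ≤ 8) :
    ¬ q ^ 3 ∣ ∏ i : Fin d, (3 ^ d - 3 ^ (i : ℕ)) := by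
  intro h
  have h8 : (∏ i : Fin d, (3 ^ d - 3 ^ (i : ℕ))) ∣
      2 ^ 19 * 3 ^ 28 * (5 ^ 2 * 7 * 11 ^ 2 * 13 ^ 2 * 41 * 1093) := by
    interval_cases d <;> norm_num [Fin.prod_univ_succ]
  have hcop : Nat.Coprime (q ^ 3) (2 ^ 19 * 3 ^ 28) := by
    refine Nat.Coprime.mul_right ?_ ?_
    · exact Nat.Coprime.pow _ _ ((Nat.coprime_primes hq Nat.prime_two).2 h2)
    · exact Nat.Coprime.pow _ _ ((Nat.coprime_primes hq Nat.prime_three).2 h3)
  have hK : q ^ 3 ∣ 5 ^ 2 * 7 * 11 ^ 2 * 13 ^ 2 * 41 * 1093 := hcop.dvd_of_dvd_mul_left (h.trans h8)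
  have hq1 : q ∣ 5 ^ 2 * 7 * 11 ^ 2 * 13 ^ 2 * 41 * 1093 := (dvd_pow_self q three_ne_zero).trans hK
  simp only [hq.dvd_mul] at hq1
  have key : ∀ {r k : ℕ}, r.Prime → q ∣ r ^ k → q = r := fun hr hd =>
    (Nat.prime_dvd_prime_iff_eq hq hr).1 (hq.dvd_of_dvd_pow hd)
  have key' : ∀ {r : ℕ}, r.Prime → q ∣ r → q = r := fun hr hd =>
    (Nat.prime_dvd_prime_iff_eq hq hr).1 hd
  rcases hq1 with ((((hh | hh) | hh) | hh) | hh) | hh
  · rw [key (by norm_num) hh] at hK; norm_num at hK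
  · rw [key' (by norm_num) hh] at hK; norm_num at hK
  · rw [key (by norm_num) hh] at hK; norm_num at hK
  · rw [key (by norm_num) hh] at hK; norm_num at hK
  · rw [key' (by norm_num) hh] at hK; norm_num at hK
  · rw [key' (by norm_num) hh] at hK; norm_num at hK

/-- An odd part dividing the order for dimension at most three is `13`. -/
theorem eq_thirteen {q k d : ℕ} (hq : q.Prime) (h2 : q ≠ 2) (h3 : q ≠ 3) (hk : k ≠ 0) (hd : d ≤ 3)
    (h : q ^ k ∣ ∏ i : Fin d, (3 ^ d - 3 ^ (i : ℕ))) : q ^ k = 13 := by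
  have hN : (∏ i : Fin d, (3 ^ d - 3 ^ (i : ℕ))) ∣ 2 ^ 5 * 3 ^ 3 * 13 := by
    interval_cases d <;> norm_num [Fin.prod_univ_succ]
  have hcop : Nat.Coprime (q ^ k) (2 ^ 5 * 3 ^ 3) := by
    refine Nat.Coprime.mul_right ?_ ?_
    · exact Nat.Coprime.pow _ _ ((Nat.coprime_primes hq Nat.prime_two).2 h2)
    · exact Nat.Coprime.pow _ _ ((Nat.coprime_primes hq Nat.prime_three).2 h3)
  have h13 : q ^ k ∣ 13 := hcop.dvd_of_dvd_mul_left (h.trans hN)
  rcases (Nat.dvd_prime (by norm_num : Nat.Prime 13)).1 h13 with h1 | h1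
  · exact absurd ((Nat.pow_eq_one.1 h1).resolve_right hk) hq.one_lt.ne'
  · exact h1

variable {S : Type*} [Group S] [Finite S] {E : Type*} [AddCommGroup E] [Module (ZMod 3) E]
  (ρ : Representation (ZMod 3) S E)

/-- The action of a subgroup on an invariant submodule. -/
noncomputable def resHom (W : Subgroup S) (M : Submodule (ZMod 3) E)
    (h : ∀ w ∈ W, ∀ v ∈ M, ρ w v ∈ M) : W →* (M →ₗ[ZMod 3] M)ˣ :=
  ({ toFun := fun w => (ρ (w : S)).restrict (h w w.2)
     map_one' := LinearMap.ext fun v => Subtype.ext (by simp)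
     map_mul' := fun x y => LinearMap.ext fun v => Subtype.ext (by
       simp [LinearMap.restrict_apply, rho_mul]) } : W →* (M →ₗ[ZMod 3] M)).toHomUnits

theorem resHom_eq_one (W : Subgroup S) (M : Submodule (ZMod 3) E)
    (h : ∀ w ∈ W, ∀ v ∈ M, ρ w v ∈ M) (w : W) :
    resHom ρ W M h w = 1 ↔ ∀ v ∈ M, ρ (w : S) v = v := by
  constructor
  · intro e v hv
    exact congrArg Subtype.val (LinearMap.congr_fun (congrArg Units.val e) ⟨v, hv⟩)
  · intro e
    exact Units.ext (LinearMap.ext fun v => Subtype.ext (e v v.2))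

variable [Finite E] {ρ} {b : S} {R Q : Subgroup S} (C : Ctx ρ b R Q)

include C

/-- A moved abelian subgroup acts on three dimensions with regular orbits. -/
theorem Ctx.abelian_bound {W : Subgroup S} (hW : W ≤ R) (hbW : b ∈ normalizer (W : Set S))
    (hfpf : ∀ w ∈ W, b * w = w * b → w = 1) (hab : ∀ x ∈ W, ∀ y ∈ W, x * y = y * x) :
    Nat.card W ≤ 27 ∧ Nat.card W ∣
      ∏ i : Fin (Module.finrank (ZMod 3) (mov ρ W)),
        (3 ^ Module.finrank (ZMod 3) (mov ρ W) - 3 ^ (i : ℕ)) ∧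
      Module.finrank (ZMod 3) (mov ρ W) ≤ 3 := by
  classical
  haveI : Module.Finite (ZMod 3) E := Module.Finite.of_finite
  obtain ⟨hd, v, hv, hfree⟩ := C.cubic.abelian ρ W (C.not_dvd hW) hbW hfpf hab
  have hinv : ∀ w ∈ W, ∀ u ∈ mov ρ W, ρ w u ∈ mov ρ W :=
    fun w hw u hu => mov_invariant ρ W (C.not_dvd hW) (le_normalizer hw) hu
  refine ⟨?_, ?_, hd⟩
  · have h1 : Nat.card W ≤ Nat.card (mov ρ W) := by
      refine Nat.card_le_card_of_injective (fun w : W => (⟨ρ (w : S) v, hinv w w.2 v hv⟩ : mov ρ W)) ?_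
      intro x y e
      have e' : ρ (x : S) v = ρ (y : S) v := congrArg Subtype.val e
      have h := hfree _ (mul_mem (inv_mem y.2) x.2) (by rw [rho_mul, e', rho_inv_apply])
      exact Subtype.ext (inv_mul_eq_one.1 (C.faith (h.trans (map_one ρ).symm))).symm
    refine h1.trans ?_
    rw [Module.natCard_eq_pow_finrank (K := ZMod 3), Nat.card_zmod]
    exact (Nat.pow_le_pow_right (by norm_num) hd).trans (by norm_num)
  · rw [← card_units_end]
    refine Subgroup.card_dvd_of_injective (resHom ρ W (mov ρ W) hinv) ?_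
    rw [← MonoidHom.ker_eq_bot_iff, Subgroup.eq_bot_iff_forall]
    intro w hw
    have := (resHom_eq_one ρ W (mov ρ W) hinv w).1 hw
    exact Subtype.ext (C.faith ((rho_eq_one_of_forall_mov ρ W (C.not_dvd hW) w.2 this).trans
      (map_one ρ).symm))

omit C in
theorem prime_ne_three_of_le {q : ℕ} {A R : Subgroup S} (h : A ≤ R) (hR : ¬ 3 ∣ Nat.card R)
    (hA : IsPGroup q A) (hq : q.Prime) (hA1 : A ≠ ⊥) : q ≠ 3 := by
  rintro rfl
  haveI := Fact.mk hq
  obtain ⟨k, hk⟩ := IsPGroup.iff_card.1 hA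
  rcases Nat.eq_zero_or_pos k with rfl | h0
  · exact hA1 (Subgroup.eq_bot_of_card_eq _ (by rw [hk, pow_zero]))
  · exact hR ((hk ▸ dvd_pow_self 3 h0.ne').trans (Subgroup.card_dvd_of_le h))

/-- A moved odd abelian primary subgroup with trivial fixed points has order thirteen. -/
theorem Ctx.card_thirteen {q : ℕ} (hq : q.Prime) (h2 : q ≠ 2) {W : Subgroup S} (hWq : IsPGroup q W)
    (hW : W ≤ R) (hbW : b ∈ normalizer (W : Set S))
    (hfpf : ∀ w ∈ W, b * w = w * b → w = 1) (hab : ∀ x ∈ W, ∀ y ∈ W, x * y = y * x) (hW1 : W ≠ ⊥) :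
    Nat.card W = 13 := by
  haveI := Fact.mk hq
  obtain ⟨-, hdvd, hd⟩ := C.abelian_bound hW hbW hfpf hab
  obtain ⟨k, hk⟩ := IsPGroup.iff_card.1 hWq
  rw [hk] at hdvd ⊢
  refine eq_thirteen hq h2 (prime_ne_three_of_le hW C.coprime hWq hq hW1) (fun h0 => ?_) hd hdvd
  exact hW1 (Subgroup.eq_bot_of_card_eq _ (by rw [hk, h0, pow_zero]))

/-- An odd abelian subgroup normalised by `b` and `Q` is not moved. -/
theorem Ctx.odd_abelian {q : ℕ} (hq : q.Prime) (h2 : q ≠ 2) {A : Subgroup S} (hAq : IsPGroup q A)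
    (hA : A ≤ R) (hbA : b ∈ normalizer (A : Set S)) (hQA : Q ≤ normalizer (A : Set S))
    (hab : ∀ x ∈ A, ∀ y ∈ A, x * y = y * x) : ∀ a ∈ A, b * a = a * b := by
  classical
  haveI := Fact.mk hq
  intro a ha
  by_contra hne
  obtain ⟨W, hWA, hbW, hWfpf, hW1, hWmem⟩ := C.exists_fpf hA hbA hab ha hne
  have hWcard := C.card_thirteen hq h2 (hAq.to_le hWA) (hWA.trans hA) hbW hWfpf
    (fun x hx y hy => hab x (hWA hx) y (hWA hy)) hW1
  have hodd : ∀ x ∈ A, x ^ 2 = 1 → x = 1 := by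
    intro x hx h
    obtain ⟨n, hn⟩ := hAq ⟨x, hx⟩
    have hn' : x ^ q ^ n = 1 := by simpa using congrArg Subtype.val hn
    have := pow_gcd_eq_one.2 ⟨h, hn'⟩
    rwa [Nat.Coprime.pow_right n ((Nat.coprime_primes Nat.prime_two hq).2 (Ne.symm h2)), pow_one] at this
  have hQconj : ∀ u ∈ Q, ∀ x ∈ A, u * x * u⁻¹ ∈ A := fun u hu x hx =>
    (mem_normalizer_iff.1 (hQA hu) x).1 hx
  have hbconj : ∀ x ∈ A, b * x * b⁻¹ ∈ A := fun x hx => (mem_normalizer_iff.1 hbA x).1 hx
  -- the part centralised by `Q`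
  set A0 := A ⊓ centralizer (Q : Set S) with hA0
  by_cases hmov : ∃ x ∈ A0, b * x ≠ x * b
  · obtain ⟨x, hx, hxne⟩ := hmov
    have hb0 : b ∈ normalizer (A0 : Set S) :=
      Coprime.inf_le_normalizer (C.zpowers_le hbA)
        ((C.zpowers_le C.bQ).trans (Coprime.normalizer_le_normalizer_centralizer Q)) (mem_zpowers b)
    obtain ⟨V, hVA, hbV, hVfpf, hV1, -⟩ := C.exists_fpf (inf_le_left.trans hA) hb0
      (fun y hy z hz => hab y hy.1 z hz.1) hx hxne
    have hVA' : V ≤ A := hVA.trans inf_le_left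
    have hVcard := C.card_thirteen hq h2 (hAq.to_le hVA') (hVA'.trans hA) hbV hVfpf
      (fun y hy z hz => hab y (hVA' hy) z (hVA' hz)) hV1
    have hcom : ∀ y ∈ V, ∀ u ∈ Q, y * u = u * y := fun y hy u hu =>
      (Subgroup.mem_centralizer_iff.1 (hVA hy).2 u hu).symm
    have hQV : Q ≤ normalizer (V : Set S) := fun u hu => mem_normalizer_iff.2 fun y => ⟨
      fun hy => by rw [← hcom y hy u hu, mul_inv_cancel_right]; exact hy,
      fun hy => by
        have h := hcom _ hy u hu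
        rw [inv_mul_cancel_right] at h
        rwa [← mul_left_cancel h] at hy⟩
    have hdis : V ⊓ Q = ⊥ := (Subgroup.eq_bot_iff_forall _).2 fun y hy =>
      hodd y (hVA' hy.1) (C.Qexp y hy.2)
    set T := V ⊔ Q with hT
    have hmemT : ∀ t ∈ T, ∃ y ∈ V, ∃ u ∈ Q, y * u = t := fun t ht => by
      have h : t ∈ ((V ⊔ Q : Subgroup S) : Set S) := ht
      rw [Subgroup.coe_mul_of_right_le_normalizer_left V Q hQV] at h
      exact h
    have hTab : ∀ s ∈ T, ∀ t ∈ T, s * t = t * s := by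
      intro s hs t ht
      obtain ⟨y, hy, u, hu, rfl⟩ := hmemT s hs
      obtain ⟨y', hy', u', hu', rfl⟩ := hmemT t ht
      calc y * u * (y' * u') = y * (u * y') * u' := by group
        _ = (y * y') * (u * u') := by rw [← hcom y' hy' u hu]; group
        _ = (y' * y) * (u' * u) := by rw [hab y (hVA' hy) y' (hVA' hy'), C.Qcomm u hu u' hu']
        _ = y' * (y * u') * u := by group
        _ = y' * u' * (y * u) := by rw [hcom y hy u' hu']; group
    have hTfpf : ∀ t ∈ T, b * t = t * b → t = 1 := by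
      intro t ht e
      obtain ⟨y, hy, u, hu, rfl⟩ := hmemT t ht
      have hy' : b * y * b⁻¹ ∈ V := (mem_normalizer_iff.1 hbV y).1 hy
      have hu' : b * u * b⁻¹ ∈ Q := (mem_normalizer_iff.1 C.bQ u).1 hu
      have e' : (b * y * b⁻¹) * (b * u * b⁻¹) = y * u := by
        rw [show (b * y * b⁻¹) * (b * u * b⁻¹) = b * (y * u) * b⁻¹ by group, e, mul_inv_cancel_right]
      have hmem : y⁻¹ * (b * y * b⁻¹) ∈ V ⊓ Q := by
        refine Subgroup.mem_inf.2 ⟨mul_mem (inv_mem hy) hy', ?_⟩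
        rw [show y⁻¹ * (b * y * b⁻¹) =
          y⁻¹ * ((b * y * b⁻¹) * (b * u * b⁻¹)) * (b * u * b⁻¹)⁻¹ by group, e', inv_mul_cancel_left]
        exact mul_mem hu (inv_mem hu')
      rw [hdis, Subgroup.mem_bot, inv_mul_eq_one, eq_mul_inv_iff_mul_eq] at hmem
      have hy1 := hVfpf y hy hmem.symm
      subst hy1
      rw [one_mul] at e ⊢
      exact C.Qfpf u hu e
    have hTcard : 52 ≤ Nat.card T := by
      let f : V × Q → T := fun p => ⟨p.1 * p.2, mul_mem_sup p.1.2 p.2.2⟩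
      have hf : Function.Injective f := fun p p' e =>
        Subgroup.mul_injective_of_disjoint (disjoint_iff.2 hdis) (congrArg Subtype.val e)
      have := Nat.card_le_card_of_injective f hf
      rw [Nat.card_prod, hVcard, C.Qcard] at this
      exact this
    have := (C.abelian_bound (sup_le (hVA'.trans hA) C.QR)
      (Coprime.sup_le_normalizer (C.zpowers_le hbV) (C.zpowers_le C.bQ) (mem_zpowers b)) hTfpf hTab).1
    rw [hT] at hTcard
    omega
  push Not at hmov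
  -- an element inverted by some of `Q` and fixed by some of it
  obtain ⟨x, hx, hx1, p, hp, r, hr, hpx, hrx⟩ :
      ∃ x ∈ A, x ≠ 1 ∧ ∃ p ∈ Q, ∃ r ∈ Q, p * x * p⁻¹ = x⁻¹ ∧ (r * x * r⁻¹ = x ∧ r ≠ 1) := by
    have hcomm' : a ∉ A0 := fun h => hne (hmov a h)
    obtain ⟨u, hu, hua⟩ : ∃ u ∈ Q, u * a * u⁻¹ ≠ a := by
      by_contra h
      push Not at h
      exact hcomm' ⟨ha, Subgroup.mem_centralizer_iff.2 fun u hu => mul_inv_eq_iff_eq_mul.1 (h u hu)⟩
    have hu1 : u ≠ 1 := fun e => hua (by rw [e]; group)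
    obtain ⟨t, ht, htu⟩ : ∃ t ∈ Q, t ∉ zpowers u := by
      by_contra h
      push Not at h
      have h1 := Subgroup.card_le_of_le (show Q ≤ zpowers u from h)
      rw [Nat.card_zpowers, orderOf_eq_prime (C.Qexp u hu) hu1, C.Qcard] at h1
      omega
    have ht1 : t ≠ 1 := fun e => htu (e ▸ one_mem _)
    have htu1 : t * u ≠ 1 := fun e => htu (by
      rw [eq_inv_of_mul_eq_one_left e]; exact inv_mem (mem_zpowers u))
    set y := a * (u * a * u⁻¹)⁻¹ with hy
    have hyA : y ∈ A := mul_mem ha (inv_mem (hQconj u hu a ha))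
    have hy1 : y ≠ 1 := fun e => hua (mul_inv_eq_one.1 e).symm
    have hcu : ∀ z, u * (u * z * u⁻¹) * u⁻¹ = z := fun z => by
      have e : u * u = 1 := by rw [← pow_two]; exact C.Qexp u hu
      rw [show u * (u * z * u⁻¹) * u⁻¹ = (u * u) * z * (u * u)⁻¹ by group, e]; group
    have hct : ∀ z, t * (t * z * t⁻¹) * t⁻¹ = z := fun z => by
      have e : t * t = 1 := by rw [← pow_two]; exact C.Qexp t ht
      rw [show t * (t * z * t⁻¹) * t⁻¹ = (t * t) * z * (t * t)⁻¹ by group, e]; group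
    have hyu : u * y * u⁻¹ = y⁻¹ := by
      rw [hy, ← conj_mul, ← conj_inv, hcu, mul_inv_rev, inv_inv]
    have hyt : u * (t * y * t⁻¹) * u⁻¹ = (t * y * t⁻¹)⁻¹ := by
      rw [show u * (t * y * t⁻¹) * u⁻¹ = (u * t) * y * (u * t)⁻¹ by group, C.Qcomm u hu t ht,
        show (t * u) * y * (t * u)⁻¹ = t * (u * y * u⁻¹) * t⁻¹ by group, hyu, conj_inv]
    have hytA := hQconj t ht y hyA
    by_cases hplus : y * (t * y * t⁻¹) = 1
    · -- inverted by both
      refine ⟨y, hyA, hy1, u, hu, t * u, mul_mem ht hu, hyu, ?_, htu1⟩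
      rw [show t * u * y * (t * u)⁻¹ = t * (u * y * u⁻¹) * t⁻¹ by group, hyu, ← conj_inv,
        eq_inv_of_mul_eq_one_right hplus, inv_inv]
    · refine ⟨y * (t * y * t⁻¹), mul_mem hyA hytA, hplus, u, hu, t, ht, ?_, ?_, ht1⟩
      · rw [← conj_mul, hyu, hyt, ← mul_inv_rev, hab _ hyA _ hytA]
      · rw [← conj_mul, hct, hab _ hytA _ hyA]
  obtain ⟨hrx, hr1⟩ := hrx
  -- its translates
  have hb' : ∀ u ∈ Q, b * u * b⁻¹ ∈ Q := fun u hu => (mem_normalizer_iff.1 C.bQ u).1 hu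
  have hne1 : ∀ u ∈ Q, u ≠ 1 → b * u * b⁻¹ ≠ u := fun u hu h e =>
    h (C.Qfpf u hu (mul_inv_eq_iff_eq_mul.1 e))
  have hbinj : ∀ u, b * u * b⁻¹ = 1 → u = 1 := fun u e => by
    have := congrArg (fun z => b⁻¹ * z * b) e
    simpa [mul_assoc] using this
  set r1 := b * r * b⁻¹ with hr1d
  have hr1Q : r1 ∈ Q := hb' r hr
  have hr1ne : r1 ≠ r := hne1 r hr hr1
  set x1 := b * x * b⁻¹ with hx1d
  set x2 := b * x1 * b⁻¹ with hx2d
  have hx1A := hbconj x hx
  have hx2A := hbconj x1 hx1A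
  -- every element of `Q` outside `⟨r⟩` inverts `x`
  have hinv : ∀ u ∈ Q, u ≠ 1 → u ≠ r → u * x * u⁻¹ = x⁻¹ := by
    intro u hu hu1 hur
    have hp1 : p ≠ 1 := fun e => by
      rw [e, one_mul, inv_one, mul_one] at hpx
      exact hx1 (hodd x hx (by rw [pow_two]; nth_rewrite 2 [hpx]; group))
    have hpr : p ≠ r := fun e => by
      rw [e, hrx] at hpx
      exact hx1 (hodd x hx (by rw [pow_two]; nth_rewrite 2 [hpx]; group))
    by_cases hup : u = p
    · rw [hup]; exact hpx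
    have hupr : u = p * r := by
      by_contra hne'
      have hpr1 : p * r ≠ 1 := fun e => hpr (by
        rw [eq_inv_of_mul_eq_one_left e]
        exact inv_eq_of_mul_eq_one_right (by rw [← pow_two]; exact C.Qexp r hr))
      classical
      let T5 : Finset S := {1, p, r, p * r, u}
      have hT5 : T5.card = 5 := by
        have e1 : p * r ≠ p := fun e => hr1 (mul_eq_left.1 e)
        have e2 : p * r ≠ r := fun e => hp1 (mul_eq_right.1 e)
        simp [T5, hp1.symm, hr1.symm, hpr1.symm, hu1.symm, hpr, e1.symm, e2.symm, Ne.symm hup,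
          Ne.symm hur, Ne.symm hne']
      have := Nat.card_le_card_of_injective (fun z : T5 => (⟨z.1, by
        have := z.2
        simp only [T5, Finset.mem_insert, Finset.mem_singleton] at this
        rcases this with h | h | h | h | h <;> rw [h]
        exacts [one_mem _, hp, hr, mul_mem hp hr, hu]⟩ : Q))
        fun y z e => Subtype.ext (congrArg (fun w : Q => (w : S)) e)
      rw [Nat.card_eq_fintype_card, Fintype.card_coe, hT5, C.Qcard] at this
      omega
    rw [hupr, show p * r * x * (p * r)⁻¹ = p * (r * x * r⁻¹) * p⁻¹ by group, hrx, hpx]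
  -- the action of `r` on the translates
  have hback : ∀ u ∈ Q, ∃ w ∈ Q, b * w * b⁻¹ = u := by
    intro u hu
    refine ⟨b⁻¹ * u * b, (mem_normalizer_iff.1 C.bQ _).2 ?_, by group⟩
    rw [show b * (b⁻¹ * u * b) * b⁻¹ = u by group]; exact hu
  have hrx1 : r * x1 * r⁻¹ = x1⁻¹ := by
    obtain ⟨w, hw, e⟩ := hback r hr
    have hw1 : w ≠ 1 := fun h => hr1 (by rw [← e, h]; group)
    have hwr : w ≠ r := fun h => hr1ne (by rw [hr1d, ← h, e, h])
    rw [hx1d, ← e, show b * w * b⁻¹ * (b * x * b⁻¹) * (b * w * b⁻¹)⁻¹ = b * (w * x * w⁻¹) * b⁻¹ by group,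
      hinv w hw hw1 hwr, conj_inv]
  have hrx2 : r * x2 * r⁻¹ = x2⁻¹ := by
    obtain ⟨w, hw, e⟩ := hback r hr
    obtain ⟨w', hw', e'⟩ := hback w hw
    have hw1 : w ≠ 1 := fun h => hr1 (by rw [← e, h]; group)
    have hw'1 : w' ≠ 1 := fun h => hw1 (by rw [← e', h]; group)
    have hw'r : w' ≠ r := fun h => by
      -- then `b²` fixes `r`
      have h2 : Commute (b * b) r := by
        show b * b * r = r * (b * b)
        calc b * b * r = b * (b * w' * b⁻¹) * b⁻¹ * (b * b) := by rw [h]; group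
          _ = r * (b * b) := by rw [e', e]
      have h4 := h2.mul_left h2
      rw [show b * b * (b * b) = b ^ 3 * b by simp only [pow_succ, pow_zero, one_mul, mul_assoc],
        C.pow_b, one_mul] at h4
      exact hr1 (C.Qfpf r hr h4.eq)
    have hh : w * x1 * w⁻¹ = x1⁻¹ := by
      rw [hx1d, ← e', show b * w' * b⁻¹ * (b * x * b⁻¹) * (b * w' * b⁻¹)⁻¹ = b * (w' * x * w'⁻¹) * b⁻¹ by group,
        hinv w' hw' hw'1 hw'r, conj_inv]
    rw [hx2d, ← e, show b * w * b⁻¹ * (b * x1 * b⁻¹) * (b * w * b⁻¹)⁻¹ = b * (w * x1 * w⁻¹) * b⁻¹ by group,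
      hh]
    simp only [hx1d]; simp only [mul_inv_rev, inv_inv, mul_assoc]
  -- two elements in a cyclic group of order thirteen
  have h01 : x⁻¹ * x1 ∈ W := hWmem x hx
  have h02 : x⁻¹ * x2 ∈ W := by
    have := hWmem x1 hx1A
    have h' := mul_mem h01 this
    rwa [show x⁻¹ * x1 * (x1⁻¹ * (b * x1 * b⁻¹)) = x⁻¹ * x2 by rw [hx2d]; group] at h'
  have h01ne : x⁻¹ * x1 ≠ 1 := fun e => by
    have e' := (inv_mul_eq_one.1 e).symm
    rw [e', hrx] at hrx1
    exact hx1 (hodd x hx (by rw [pow_two]; nth_rewrite 2 [hrx1]; group))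
  haveI : Fact (Nat.Prime 13) := ⟨by norm_num⟩
  have hgen : x⁻¹ * x2 ∈ zpowers (x⁻¹ * x1) := by
    have hle : zpowers (x⁻¹ * x1) ≤ W := Subgroup.zpowers_le.2 h01
    have heq : zpowers (x⁻¹ * x1) = W := by
      refine Subgroup.eq_of_le_of_card_ge hle ?_
      have hdvd := Subgroup.card_dvd_of_le hle
      rw [hWcard] at hdvd ⊢
      rcases (Nat.dvd_prime (by norm_num)).1 hdvd with h | h
      · exact absurd (Subgroup.eq_bot_of_card_eq _ h) fun h' => h01ne (zpowers_eq_bot.1 h')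
      · exact h.ge
    rw [heq]; exact h02
  obtain ⟨k, hk⟩ := mem_zpowers_iff.1 hgen
  open scoped IsMulCommutative in
  have key : x2 = 1 := by
    haveI : IsMulCommutative A := ⟨⟨fun y z => Subtype.ext (hab _ y.2 _ z.2)⟩⟩
    let X : A := ⟨x, hx⟩
    let X1 : A := ⟨x1, hx1A⟩
    let X2 : A := ⟨x2, hx2A⟩
    let φ : A →* A :=
      { toFun := fun z => ⟨r * z * r⁻¹, hQconj r hr z z.2⟩
        map_one' := Subtype.ext (by simp)
        map_mul' := fun y z => Subtype.ext (by simp [mul_assoc]) }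
    have eX : φ X = X := Subtype.ext hrx
    have eX1 : φ X1 = X1⁻¹ := Subtype.ext hrx1
    have eX2 : φ X2 = X2⁻¹ := Subtype.ext hrx2
    have h1 : (X⁻¹ * X1) ^ k = X⁻¹ * X2 := Subtype.ext (by simpa [X, X1, X2] using hk)
    have h2 : (X⁻¹ * X1⁻¹) ^ k = X⁻¹ * X2⁻¹ := by
      have := congrArg φ h1
      simpa [map_zpow, map_mul, map_inv, eX, eX1, eX2] using this
    have h3 := congrArg₂ (· * ·) h1 h2
    have h4 : X ^ (2 * (1 - k) : ℤ) = 1 := by
      have e1 : (X⁻¹ * X1) ^ k * (X⁻¹ * X1⁻¹) ^ k = X ^ (-(2 * k)) := by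
        rw [← mul_zpow, show X⁻¹ * X1 * (X⁻¹ * X1⁻¹) = X ^ (-2 : ℤ) by
          rw [mul_mul_mul_comm, mul_inv_cancel, mul_one]; group]
        rw [← zpow_mul]; ring_nf
      have e2 : X⁻¹ * X2 * (X⁻¹ * X2⁻¹) = X ^ (-2 : ℤ) := by
        rw [mul_mul_mul_comm, mul_inv_cancel, mul_one]; group
      simp only [e1, e2] at h3
      rw [show (2 * (1 - k) : ℤ) = -(2 * k) - (-2) by ring, zpow_sub, h3, mul_inv_cancel]
    have h5 : X ^ (1 - k) = 1 := by
      refine Subtype.ext (hodd _ (X ^ (1 - k)).2 ?_)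
      rw [← Subgroup.coe_pow, ← zpow_natCast, ← zpow_mul,
        show (1 - k) * ((2 : ℕ) : ℤ) = 2 * (1 - k) by push_cast; ring, h4]
      rfl
    -- hence `X1 ^ k = X2`, so `x2` is fixed and inverted by the same element
    have h6 : X1 ^ k = X2 := by
      have : X2 = X * (X⁻¹ * X1) ^ k := by rw [h1, mul_inv_cancel_left]
      rw [this, mul_zpow, ← mul_assoc, inv_zpow',
        show X * X ^ (-k) = X ^ (1 - k) by rw [← zpow_one_add]; ring_nf, h5, one_mul]
    have hfix : b * r * b⁻¹ * x1 * (b * r * b⁻¹)⁻¹ = x1 := by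
      rw [hx1d, show b * r * b⁻¹ * (b * x * b⁻¹) * (b * r * b⁻¹)⁻¹ = b * (r * x * r⁻¹) * b⁻¹ by group, hrx]
    have hmove : b * r * b⁻¹ * x2 * (b * r * b⁻¹)⁻¹ = x2⁻¹ := by
      rw [hx2d, show b * r * b⁻¹ * (b * x1 * b⁻¹) * (b * r * b⁻¹)⁻¹ = b * (r * x1 * r⁻¹) * b⁻¹ by group,
        hrx1]
      simp only [hx1d]; simp only [mul_inv_rev, inv_inv, mul_assoc]
    have h6' : x1 ^ k = x2 := by simpa [X1, X2] using congrArg Subtype.val h6
    rw [← h6', ← conj_zpow, hfix, h6'] at hmove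
    exact hodd x2 hx2A (by rw [pow_two]; nth_rewrite 2 [hmove]; group)
  refine hx1 (hbinj x ?_)
  exact hbinj _ key

end CfsgLib.CubicBlock
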