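import Cfsg.Agent.Lib.CubicBlock.Bound
import Cfsg.Agent.Lib.Coprime.Fitting
import Cfsg.Agent.Lib.Coprime.Solvable
import Cfsg.Agent.Lib.LocalStructure.FStar

/-!
# Without a moved elementary abelian normal `2`-subgroup

The commutator part is a `2`-group of class two, which the four group contradicts.
-/

set_option autoImplicit false
set_option linter.unusedSectionVars false
set_option linter.style.haveILetI false

namespace CfsgLib.CubicBlock

open Subgroup LinearMap
open scoped commutatorElement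

variable {S : Type*} [Group S] [Finite S] {E : Type*} [AddCommGroup E] [Module (ZMod 3) E] [Finite E]
  {ρ : Representation (ZMod 3) S E} {b : S} {R Q : Subgroup S} (C : Ctx ρ b R Q)

include C

/-- The commutator with `b` fixed by `b` is trivial. -/
theorem Ctx.eq_of_comm_fixed {u : S} (hu : u ∈ R)
    (hw : b * (u * b * u⁻¹ * b⁻¹) = (u * b * u⁻¹ * b⁻¹) * b) : b * u = u * b := by
  set w := u * b * u⁻¹ * b⁻¹
  have hwR : w ∈ R := by
    rw [show w = u * (b * u⁻¹ * b⁻¹) by simp only [w]; group]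
    exact mul_mem hu ((mem_normalizer_iff.1 C.bR _).1 (inv_mem hu))
  have hc : Commute w b := hw.symm
  have h1 : w ^ 3 = 1 := by
    have e : w * b = u * b * u⁻¹ := inv_mul_cancel_right _ _
    have h := congrArg (· ^ 3) e
    simpa [hc.mul_pow, conj_pow, C.pow_b] using h
  have h2 : orderOf w ∣ 3 := orderOf_dvd_of_pow_eq_one h1
  rcases (Nat.dvd_prime Nat.prime_three).1 h2 with h | h
  · have e : u * b * u⁻¹ * b⁻¹ = 1 := orderOf_eq_one_iff.1 h
    rw [mul_inv_eq_one, mul_inv_eq_iff_eq_mul] at e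
    exact e.symm
  · exact absurd (h ▸ Subgroup.orderOf_dvd_natCard R hwR) C.coprime

/-- An odd class two subgroup contains no noncentral commutator with `b`. -/
theorem Ctx.class_two {q : ℕ} (hq : q.Prime) (h2 : q ≠ 2) {Y : Subgroup S} (hYq : IsPGroup q Y)
    (hY : Y ≤ R) (hbY : b ∈ normalizer (Y : Set S))
    (hcent : ∀ x ∈ Y, ∀ y ∈ Y, ∀ t ∈ Y, ⁅x, y⁆ * t = t * ⁅x, y⁆) {u v : S} (hu : u ∈ Y) (hv : v ∈ Y) :
    (u * b * u⁻¹ * b⁻¹) * v = v * (u * b * u⁻¹ * b⁻¹) := by
  classical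
  haveI := Fact.mk hq
  haveI : Module.Finite (ZMod 3) E := Module.Finite.of_finite
  set w := u * b * u⁻¹ * b⁻¹
  have hwY : w ∈ Y := by
    rw [show w = u * (b * u⁻¹ * b⁻¹) by simp only [w]; group]
    exact mul_mem hu ((mem_normalizer_iff.1 hbY _).1 (inv_mem hu))
  set z := ⁅w, v⁆ with hz
  by_contra hne
  have hz1 : z ≠ 1 := fun e => hne (commutatorElement_eq_one_iff_mul_comm.1 e)
  have hYne : Y ≠ ⊥ := fun e => hne (by
    rw [e, Subgroup.mem_bot] at hv
    rw [hv, mul_one, one_mul])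
  have h3 := prime_ne_three_of_le hY C.coprime hYq hq hYne
  have hzY : z ∈ Y := mul_mem (mul_mem (mul_mem hwY hv) (inv_mem hwY)) (inv_mem hv)
  set Mz := LinearMap.range (ρ z - 1) with hMz
  have hinv : ∀ y ∈ Y, ∀ x ∈ Mz, ρ y x ∈ Mz := by
    rintro y hy _ ⟨x, rfl⟩
    refine ⟨ρ y x, ?_⟩
    simp only [LinearMap.sub_apply, Module.End.one_apply, map_sub]
    rw [← rho_mul, ← rho_mul, hcent w hwY v hv y hy]
  have hdim : Module.finrank (ZMod 3) Mz ≤ 8 := by
    have hrw : Module.finrank (ZMod 3) (range (ρ w - 1)) ≤ 4 := by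
      have h := finrank_range_mul_sub_le ρ (u * b * u⁻¹) b⁻¹
      rw [finrank_range_conj_sub, finrank_range_inv_sub] at h
      have := C.cubic.rank
      change Module.finrank (ZMod 3) (range (ρ w - 1)) ≤ _ at h
      omega
    have h := finrank_range_mul_sub_le ρ w (v * w⁻¹ * v⁻¹)
    rw [finrank_range_conj_sub, finrank_range_inv_sub] at h
    have e : z = w * (v * w⁻¹ * v⁻¹) := by rw [hz, commutatorElement_def]; group
    rw [hMz, e]
    omega
  let f := resHom ρ Y Mz hinv
  have hfz : f ⟨z, hzY⟩ ≠ 1 := by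
    intro e
    have h := (resHom_eq_one ρ Y Mz hinv ⟨z, hzY⟩).1 e
    have hz3 : ρ (z ^ 3) = 1 := LinearMap.ext fun x => by
      have h1 := h _ ⟨x, rfl⟩
      simp only [LinearMap.sub_apply, Module.End.one_apply, map_sub] at h1
      set n := ρ z x - x with hn
      have hzn : ρ z n = n := by rw [hn, map_sub]; exact h1
      have hzx : ρ z x = x + n := by rw [hn]; abel
      simp only [pow_succ, pow_zero, one_mul, rho_mul, hzx, map_add, hzn, Module.End.one_apply]
      rw [show x + n + n + n = x + (3 : ℕ) • n by abel, ← Nat.cast_smul_eq_nsmul (ZMod 3),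
        show ((3 : ℕ) : ZMod 3) = 0 by decide, zero_smul, add_zero]
    have h3' : z ^ 3 = 1 := C.faith (hz3.trans (map_one ρ).symm)
    obtain ⟨n, hn⟩ := hYq ⟨z, hzY⟩
    have hn' : z ^ q ^ n = 1 := by simpa using congrArg Subtype.val hn
    have := pow_gcd_eq_one.2 ⟨h3', hn'⟩
    rw [Nat.Coprime.pow_right n ((Nat.coprime_primes Nat.prime_three hq).2 (Ne.symm h3)), pow_one] at this
    exact hz1 this
  have hIp : IsPGroup q f.range := hYq.of_surjective f.rangeRestrict f.rangeRestrict_surjective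
  haveI : Finite f.range := Finite.of_surjective f.rangeRestrict f.rangeRestrict_surjective
  obtain ⟨k, hk⟩ := IsPGroup.iff_card.1 hIp
  have hncomm : ¬ ∀ a c : f.range, a * c = c * a := fun hc => hfz (by
    have := congrArg Subtype.val (hc ⟨f ⟨w, hwY⟩, ⟨_, rfl⟩⟩ ⟨f ⟨v, hv⟩, ⟨_, rfl⟩⟩)
    simp only [Subgroup.coe_mul] at this
    have e : (⟨z, hzY⟩ : Y) = ⁅(⟨w, hwY⟩ : Y), ⟨v, hv⟩⁆ := Subtype.ext rfl
    rw [e, map_commutatorElement]
    exact commutatorElement_eq_one_iff_mul_comm.2 this)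
  have hk3 : 3 ≤ k := by
    by_contra h
    refine hncomm ?_
    interval_cases k
    · intro a c
      haveI := (Nat.card_eq_one_iff_unique.1 (by rw [hk, pow_zero])).1
      exact Subsingleton.elim _ _
    · intro a c
      haveI := isCyclic_of_prime_card (α := f.range) (p := q) (by rw [hk, pow_one])
      exact mul_comm' a c
    · intro a c
      exact IsPGroup.commutative_of_card_eq_prime_sq hk a c
  have hdvd : q ^ k ∣ ∏ i : Fin (Module.finrank (ZMod 3) Mz),
      (3 ^ Module.finrank (ZMod 3) Mz - 3 ^ (i : ℕ)) := by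
    rw [← card_units_end, ← hk]
    exact f.range.card_subgroup_dvd_card
  exact not_cube_dvd hq h2 h3 hdim ((pow_dvd_pow q hk3).trans hdvd)

theorem Ctx.hyper_norm : R ⊔ zpowers b ≤ normalizer (R : Set S) :=
  sup_le le_normalizer (C.zpowers_le C.bR)

/-- What `b` fixes and `R` normalises, `R` centralises. -/
theorem Ctx.central_of_fixed {A : Subgroup S} (hn : R ⊔ zpowers b ≤ normalizer (A : Set S))
    (hfix : ∀ a ∈ A, b * a = a * b) : ∀ r ∈ R, ∀ a ∈ A, r * a = a * r := by
  have hle : R ≤ centralizer (A : Set S) := by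
    conv_lhs => rw [← C.comm]
    rw [commutator_le]
    intro r hr x hx
    have hrn : r ∈ normalizer (centralizer (A : Set S) : Set S) :=
      Coprime.normalizer_le_normalizer_centralizer A (hn (le_sup_left (b := zpowers b) hr))
    have hxc : x ∈ centralizer (A : Set S) := by
      obtain ⟨k, rfl⟩ := mem_zpowers_iff.1 hx
      exact Subgroup.zpow_mem _ (Subgroup.mem_centralizer_iff.2 fun a ha => (hfix a ha).symm) k
    rw [commutatorElement_def]
    exact mul_mem ((mem_normalizer_iff.1 hrn x).1 hxc) (inv_mem hxc)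
  exact fun r hr a ha => (Subgroup.mem_centralizer_iff.1 (hle hr) a ha).symm

/-- No elementary abelian normal `2`-subgroup is moved. -/
def NoMoved (ρ : Representation (ZMod 3) S E) (b : S) (R : Subgroup S) : Prop :=
  ∀ W : Subgroup S, W ≤ R → (∀ w ∈ W, w ^ 2 = 1) → (∀ x ∈ W, ∀ y ∈ W, x * y = y * x) →
    R ⊔ zpowers b ≤ normalizer (W : Set S) → ∀ w ∈ W, b * w = w * b

variable (hB : NoMoved ρ b R)

include hB

theorem Ctx.abelian_fixed {q : ℕ} (hq : q.Prime) {A : Subgroup S} (hAq : IsPGroup q A) (hA : A ≤ R)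
    (hn : R ⊔ zpowers b ≤ normalizer (A : Set S)) (hab : ∀ x ∈ A, ∀ y ∈ A, x * y = y * x) :
    ∀ a ∈ A, b * a = a * b := by
  have hbA : b ∈ normalizer (A : Set S) := hn (le_sup_right (a := R) (mem_zpowers b))
  by_cases h2 : q = 2
  swap
  · exact C.odd_abelian hq h2 hAq hA hbA (fun u hu => hn (le_sup_left (b := zpowers b) (C.QR hu))) hab
  subst h2
  intro a ha
  by_contra hne
  obtain ⟨W, hWA, hbW, hWfpf, hW1, -⟩ := C.exists_fpf hA hbA hab ha hne
  haveI := Fact.mk hq
  obtain ⟨k, hk⟩ := IsPGroup.iff_card.1 (hAq.to_le hWA)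
  have hk0 : k ≠ 0 := fun h => hW1 (Subgroup.eq_bot_of_card_eq _ (by rw [hk, h, pow_zero]))
  obtain ⟨t, ht⟩ := exists_prime_orderOf_dvd_card' (G := W) 2 (hk ▸ dvd_pow_self 2 hk0)
  let Ω : Subgroup S :=
    { carrier := {x | x ∈ A ∧ x ^ 2 = 1}
      one_mem' := ⟨A.one_mem, one_pow 2⟩
      mul_mem' := fun {x y} hx hy => ⟨A.mul_mem hx.1 hy.1, by
        rw [Commute.mul_pow (hab x hx.1 y hy.1), hx.2, hy.2, one_mul]⟩
      inv_mem' := fun {x} hx => ⟨A.inv_mem hx.1, by rw [inv_pow, hx.2, inv_one]⟩ }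
  have hΩ := hB Ω (fun x hx => hA hx.1) (fun x hx => hx.2) (fun x hx y hy => hab x hx.1 y hy.1)
    (fun g hg => mem_normalizer_iff.2 fun x => by
      show x ∈ A ∧ x ^ 2 = 1 ↔ g * x * g⁻¹ ∈ A ∧ (g * x * g⁻¹) ^ 2 = 1
      rw [conj_pow, conj_eq_one_iff, ← mem_normalizer_iff.1 (hn hg) x])
  have ht2 : (t : S) ^ 2 = 1 := by
    have := congrArg Subtype.val (ht ▸ pow_orderOf_eq_one t)
    simpa using this
  have := hWfpf t t.2 (hΩ t ⟨hWA t.2, ht2⟩)
  rw [show t = 1 from Subtype.ext this, orderOf_one] at ht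
  omega

theorem Ctx.derived_central {q : ℕ} (hq : q.Prime) {P : Subgroup S} (hPq : IsPGroup q P) (hP : P ≤ R)
    (hn : R ⊔ zpowers b ≤ normalizer (P : Set S)) :
    ∀ r ∈ R, ∀ c ∈ ⁅P, P⁆, r * c = c * r := by
  haveI := Fact.mk hq
  haveI : Group.IsNilpotent P := hPq.isNilpotent
  let γ : ℕ → Subgroup S := fun i => Nat.rec P (fun _ X => ⁅X, P⁆) i
  have hγle : ∀ i, γ i ≤ P := fun i => by
    induction i with
    | zero => exact le_rfl
    | succ i ih => exact (commutator_mono ih le_rfl).trans (commutator_le_self P)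
  have hγn : ∀ i, R ⊔ zpowers b ≤ normalizer (SetLike.coe (γ i)) := fun i => by
    induction i with
    | zero => exact hn
    | succ i ih =>
      intro g hg
      refine mem_normalizer_iff.2 fun x => ?_
      have key : ∀ h ∈ R ⊔ zpowers b, ∀ x ∈ γ (i + 1), h * x * h⁻¹ ∈ γ (i + 1) := by
        intro h hh x hx
        have hle : (γ (i + 1)).map (MulAut.conj h).toMonoidHom ≤ γ (i + 1) := by
          show (⁅γ i, P⁆).map _ ≤ ⁅γ i, P⁆
          rw [map_commutator]
          refine commutator_mono ?_ ?_ <;> rintro _ ⟨y, hy, rfl⟩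
          · exact (mem_normalizer_iff.1 (ih hh) y).1 hy
          · exact (mem_normalizer_iff.1 (hn hh) y).1 hy
        exact hle ⟨x, hx, rfl⟩
      refine ⟨key g hg x, fun hx => ?_⟩
      have h := key g⁻¹ (inv_mem hg) _ hx
      rwa [show g⁻¹ * (g * x * g⁻¹) * g⁻¹⁻¹ = x by group] at h
  obtain ⟨n, hn'⟩ : ∃ n, γ n = ⊥ := by
    obtain ⟨n, hn'⟩ := Subgroup.nilpotent_iff_lowerCentralSeries.1 (inferInstance : Group.IsNilpotent P)
    have key : ∀ i, γ i = (Subgroup.lowerCentralSeries (⊤ : Subgroup P) i).map P.subtype := fun i => by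
      induction i with
      | zero => rw [Subgroup.lowerCentralSeries_zero, ← MonoidHom.range_eq_map, Subgroup.range_subtype]; rfl
      | succ i ih =>
        rw [Subgroup.lowerCentralSeries_succ, map_commutator, ← ih, ← MonoidHom.range_eq_map, Subgroup.range_subtype]
    exact ⟨n, by rw [key, hn', Subgroup.map_bot]⟩
  -- downwards
  have key : ∀ j i, i + j = n → 1 ≤ i → ∀ r ∈ R, ∀ c ∈ γ i, r * c = c * r := by
    intro j
    induction j with
    | zero =>
      intro i hi _ r _ c hc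
      rw [show i = n by omega, hn', Subgroup.mem_bot] at hc
      rw [hc, mul_one, one_mul]
    | succ j ih =>
      intro i hi h1
      have hnext := ih (i + 1) (by omega) (by omega)
      have hbot : ⁅⁅γ i, P⁆, P⁆ = ⊥ := by
        rw [commutator_eq_bot_iff_le_centralizer]
        exact fun c hc => Subgroup.mem_centralizer_iff.2 fun p hp => hnext p (hP hp) c hc
      have habel : ⁅⁅P, P⁆, γ i⁆ = ⊥ :=
        commutator_commutator_eq_bot_of_rotate (by rw [commutator_comm P (γ i)]; exact hbot) hbot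
      have hsub : γ i ≤ ⁅P, P⁆ := by
        obtain ⟨i, rfl⟩ := Nat.exists_eq_add_of_le' h1
        exact commutator_mono (hγle i) le_rfl
      refine C.central_of_fixed (hγn i) (C.abelian_fixed hB hq (hPq.to_le (hγle i)) ((hγle i).trans hP)
        (hγn i) fun x hx y hy => ?_)
      exact (Subgroup.mem_centralizer_iff.1 ((commutator_eq_bot_iff_le_centralizer.1 habel) (hsub hx)) y hy).symm
  rcases Nat.eq_zero_or_pos n with rfl | h
  · intro r _ c hc
    rw [show P = ⊥ from hn', commutator_bot_left, Subgroup.mem_bot] at hc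
    rw [hc, mul_one, one_mul]
  · exact key (n - 1) 1 (by omega) le_rfl

theorem Ctx.center_fixed {q : ℕ} (hq : q.Prime) {P : Subgroup S} (hPq : IsPGroup q P) (hP : P ≤ R)
    (hn : R ⊔ zpowers b ≤ normalizer (P : Set S)) {x : S} (hx : x ∈ P)
    (hc : ∀ y ∈ P, x * y = y * x) : b * x = x * b := by
  refine C.abelian_fixed hB hq (A := P ⊓ centralizer (P : Set S)) (hPq.to_le inf_le_left)
    (inf_le_left.trans hP) (Coprime.inf_le_normalizer hn (hn.trans (Coprime.normalizer_le_normalizer_centralizer P)))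
    (fun a ha c hc => Subgroup.mem_centralizer_iff.1 hc.2 a ha.1) x
    ⟨hx, Subgroup.mem_centralizer_iff.2 fun y hy => (hc y hy).symm⟩

theorem Ctx.odd_normal_fixed {q : ℕ} (hq : q.Prime) (h2 : q ≠ 2) {P : Subgroup S} (hPq : IsPGroup q P)
    (hP : P ≤ R) (hn : R ⊔ zpowers b ≤ normalizer (P : Set S)) : ∀ a ∈ P, b * a = a * b := by
  intro u hu
  have hbP : b ∈ normalizer (P : Set S) := hn (le_sup_right (a := R) (mem_zpowers b))
  refine C.eq_of_comm_fixed (hP hu) (C.center_fixed hB hq hPq hP hn ?_ fun v hv => ?_)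
  · rw [show u * b * u⁻¹ * b⁻¹ = u * (b * u⁻¹ * b⁻¹) by group]
    exact mul_mem hu ((mem_normalizer_iff.1 hbP _).1 (inv_mem hu))
  · exact C.class_two hq h2 hPq hP hbP (fun x hx y hy t ht =>
      (C.derived_central hB hq hPq hP hn t (hP ht) _ (commutator_mem_commutator hx hy)).symm) hu hv

omit hB in
/-- Odd subgroups for primes other than thirteen are fixed. -/
theorem Ctx.qgroup_fixed {q : ℕ} (hq : q.Prime) (h2 : q ≠ 2) (h13 : q ≠ 13) :
    ∀ (m : ℕ) (Y : Subgroup S), Nat.card Y = m → IsPGroup q Y → Y ≤ R → b ∈ normalizer (Y : Set S) →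
      ∀ a ∈ Y, b * a = a * b := by
  haveI := Fact.mk hq
  intro m
  induction m using Nat.strong_induction_on with
  | _ m ih =>
  intro Y hm hYq hY hbY
  have hlt : ∀ D : Subgroup S, D < Y → b ∈ normalizer (D : Set S) → ∀ a ∈ D, b * a = a * b := fun D hD hbD =>
    ih _ (hm ▸ lt_of_le_of_ne (Subgroup.card_le_of_le hD.le) fun e =>
      hD.ne (Subgroup.eq_of_le_of_card_ge hD.le e.ge)) D rfl (hYq.to_le hD.le) (hD.le.trans hY) hbD
  have hwmem : ∀ u ∈ Y, u * b * u⁻¹ * b⁻¹ ∈ ⁅Y, zpowers b⁆ := fun u hu =>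
    commutator_mem_commutator hu (mem_zpowers b)
  have hDle : ⁅Y, zpowers b⁆ ≤ Y := by
    rw [commutator_le]
    intro u hu x hx
    rw [commutatorElement_def, show u * x * u⁻¹ * x⁻¹ = u * (x * u⁻¹ * x⁻¹) by group]
    exact mul_mem hu ((mem_normalizer_iff.1 (C.zpowers_le hbY hx) _).1 (inv_mem hu))
  have hbD : b ∈ normalizer ((⁅Y, zpowers b⁆ : Subgroup S) : Set S) := by
    have := normalizer_commutator_ge_left (zpowers b) Y (mem_zpowers b)
    rwa [commutator_comm] at this
  by_cases hD : ⁅Y, zpowers b⁆ = Y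
  swap
  · exact fun u hu => C.eq_of_comm_fixed (hY hu) (hlt _ (lt_of_le_of_ne hDle hD) hbD _ (hwmem u hu))
  haveI : Group.IsNilpotent Y := hYq.isNilpotent
  haveI : Group.IsSolvable Y := inferInstance
  intro a ha
  by_cases hY1 : Y = ⊥
  · rw [hY1, Subgroup.mem_bot] at ha
    rw [ha, mul_one, one_mul]
  have hder : ⁅Y, Y⁆ < Y := by
    haveI : Nontrivial Y := (Subgroup.nontrivial_iff_ne_bot Y).2 hY1
    refine lt_of_le_of_ne (commutator_le_self Y) fun e =>
      (Group.IsSolvable.commutator_lt_top_of_nontrivial Y).ne (Subgroup.map_injective Y.subtype_injective ?_)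
    rw [Subgroup.map_subtype_commutator, e, ← MonoidHom.range_eq_map, Subgroup.range_subtype]
  have hderN : ∀ g ∈ normalizer (Y : Set S), g ∈ normalizer ((⁅Y, Y⁆ : Subgroup S) : Set S) := by
    intro g hg
    have key : ∀ h ∈ normalizer (Y : Set S), ∀ x ∈ ⁅Y, Y⁆, h * x * h⁻¹ ∈ ⁅Y, Y⁆ := by
      intro h hh x hx
      have hle : (⁅Y, Y⁆).map (MulAut.conj h).toMonoidHom ≤ ⁅Y, Y⁆ := by
        rw [map_commutator]
        refine commutator_mono ?_ ?_ <;> rintro _ ⟨y, hy, rfl⟩ <;> exact (mem_normalizer_iff.1 hh y).1 hy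
      exact hle ⟨x, hx, rfl⟩
    refine mem_normalizer_iff.2 fun x => ⟨key g hg x, fun hx => ?_⟩
    have h := key g⁻¹ (inv_mem hg) _ hx
    rwa [show g⁻¹ * (g * x * g⁻¹) * g⁻¹⁻¹ = x by group] at h
  have hderfix := hlt _ hder (hderN b hbY)
  have hYc : Y ≤ centralizer ((⁅Y, Y⁆ : Subgroup S) : Set S) := by
    conv_lhs => rw [← hD]
    rw [commutator_le]
    intro r hr x hx
    have hrn : r ∈ normalizer (centralizer ((⁅Y, Y⁆ : Subgroup S) : Set S) : Set S) :=
      Coprime.normalizer_le_normalizer_centralizer _ (hderN r (le_normalizer hr))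
    have hxc : x ∈ centralizer ((⁅Y, Y⁆ : Subgroup S) : Set S) := by
      obtain ⟨k, rfl⟩ := mem_zpowers_iff.1 hx
      exact Subgroup.zpow_mem _ (Subgroup.mem_centralizer_iff.2 fun a ha => (hderfix a ha).symm) k
    rw [commutatorElement_def]
    exact mul_mem ((mem_normalizer_iff.1 hrn x).1 hxc) (inv_mem hxc)
  have hcent : ∀ u ∈ Y, ∀ v ∈ Y, (u * b * u⁻¹ * b⁻¹) * v = v * (u * b * u⁻¹ * b⁻¹) := fun u hu v hv =>
    C.class_two hq h2 hYq hY hbY (fun x hx y hy t ht =>
      Subgroup.mem_centralizer_iff.1 (hYc ht) _ (commutator_mem_commutator hx hy)) hu hv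
  -- the generators are central
  have hYab : ∀ x ∈ Y, ∀ y ∈ Y, x * y = y * x := by
    have hle : Y ≤ centralizer (Y : Set S) := by
      conv_lhs => rw [← hD]
      rw [commutator_le]
      intro u hu x hx
      obtain ⟨k, rfl⟩ := mem_zpowers_iff.1 hx
      have hpow : ∀ n : ℕ, ∀ u ∈ Y, u * b ^ n * u⁻¹ * (b ^ n)⁻¹ ∈ centralizer (Y : Set S) := by
        intro n
        induction n with
        | zero => intro u _; simp
        | succ n ih =>
          intro u hu
          have h1 : u * b * u⁻¹ * b⁻¹ ∈ centralizer (Y : Set S) :=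
            Subgroup.mem_centralizer_iff.2 fun v hv => (hcent u hu v hv).symm
          have hbc := (mem_normalizer_iff.1 (Coprime.normalizer_le_normalizer_centralizer Y hbY) _).1 (ih u hu)
          rw [show u * b ^ (n + 1) * u⁻¹ * (b ^ (n + 1))⁻¹ =
            (u * b * u⁻¹ * b⁻¹) * (b * (u * b ^ n * u⁻¹ * (b ^ n)⁻¹) * b⁻¹) by
              simp only [pow_succ', mul_inv_rev, mul_assoc, inv_mul_cancel_left]]
          exact mul_mem h1 hbc
      obtain ⟨n, hn⟩ := ((IsOfFinOrder.mem_powers_iff_mem_zpowers (isOfFinOrder_of_finite b)).2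
        (⟨k, rfl⟩ : b ^ k ∈ zpowers b) : _ ∈ Submonoid.powers b)
      rw [commutatorElement_def, show b ^ k = b ^ n from hn.symm]
      exact hpow n u hu
    exact fun x hx y hy => (Subgroup.mem_centralizer_iff.1 (hle hx) y hy).symm
  by_contra hne
  obtain ⟨W, hWA, hbW, hWfpf, hW1, -⟩ := C.exists_fpf hY hbY hYab ha hne
  have hc := C.card_thirteen hq h2 (hYq.to_le hWA) (hWA.trans hY) hbW hWfpf
    (fun x hx y hy => hYab x (hWA hx) y (hWA hy)) hW1
  obtain ⟨k, hk⟩ := IsPGroup.iff_card.1 (hYq.to_le hWA)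
  rw [hc] at hk
  have : q ∣ 13 := hk ▸ dvd_pow_self q (fun h => by rw [h, pow_zero] at hk; omega)
  exact h13 ((Nat.prime_dvd_prime_iff_eq hq (by norm_num)).1 this)

end CfsgLib.CubicBlock
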