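import Cfsg.Agent.Lib.CubicBlock.Bound

/-!
# The eigenspaces of a moved elementary abelian `2`-subgroup

They are lines permuted transitively, and `b` moves exactly three of them.
-/

set_option autoImplicit false
set_option linter.unusedSectionVars false
set_option linter.style.haveILetI false

namespace CfsgLib.CubicBlock

open Subgroup LinearMap

variable {S : Type*} [Group S] [Finite S] {E : Type*} [AddCommGroup E] [Module (ZMod 3) E] [Finite E]
  (ρ : Representation (ZMod 3) S E)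

/-- The common eigenspace inside the commutator part. -/
noncomputable def eig (R W : Subgroup S) (χ : W → ZMod 3) : Submodule (ZMod 3) E :=
  mov ρ R ⊓ ⨅ w : W, LinearMap.ker (ρ (w : S) - χ w • (1 : E →ₗ[ZMod 3] E))

theorem mem_eig {R W : Subgroup S} {χ : W → ZMod 3} {v : E} :
    v ∈ eig ρ R W χ ↔ v ∈ mov ρ R ∧ ∀ w : W, ρ (w : S) v = χ w • v := by
  simp [eig, Submodule.mem_iInf, sub_eq_zero]

variable {ρ} {b : S} {R Q W : Subgroup S}

theorem eig_indep (s : Finset (W → ZMod 3)) (v : (W → ZMod 3) → E)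
    (hv : ∀ χ ∈ s, v χ ∈ eig ρ R W χ) (h : ∑ χ ∈ s, v χ = 0) : ∀ χ ∈ s, v χ = 0 := by
  classical
  induction s using Finset.induction generalizing v with
  | empty => simp
  | insert a s ha ih =>
    have hs : ∀ χ ∈ s, v χ = 0 := by
      intro χ hχ
      obtain ⟨w, hw⟩ := Function.ne_iff.1 (show χ ≠ a from fun e => ha (e ▸ hχ))
      have h0 : ∑ ψ ∈ insert a s, (ψ w - a w) • v ψ = 0 := by
        have h1 := congrArg (ρ (w : S)) h
        rw [map_sum, map_zero] at h1
        calc ∑ ψ ∈ insert a s, (ψ w - a w) • v ψ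
            = ∑ ψ ∈ insert a s, ρ (w : S) (v ψ) - a w • ∑ ψ ∈ insert a s, v ψ := by
              rw [Finset.smul_sum, ← Finset.sum_sub_distrib]
              exact Finset.sum_congr rfl fun ψ hψ => by
                rw [sub_smul, ((mem_eig ρ).1 (hv ψ hψ)).2 w]
          _ = 0 := by rw [h1, h, smul_zero, sub_zero]
      rw [Finset.sum_insert ha, sub_self, zero_smul, zero_add] at h0
      have := ih (fun ψ => (ψ w - a w) • v ψ)
        (fun ψ hψ => Submodule.smul_mem _ _ (hv ψ (Finset.mem_insert_of_mem hψ))) h0 χ hχ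
      exact (smul_eq_zero.1 this).resolve_left (sub_ne_zero.2 hw)
    intro χ hχ
    rcases Finset.mem_insert.1 hχ with rfl | hχ'
    · rw [Finset.sum_insert ha, Finset.sum_eq_zero hs, add_zero] at h
      exact h
    · exact hs χ hχ'

/-- Two eigenspaces meet trivially. -/
theorem eig_disjoint {χ ψ : W → ZMod 3} (h : χ ≠ ψ) {v : E} (h1 : v ∈ eig ρ R W χ)
    (h2 : v ∈ eig ρ R W ψ) : v = 0 := by
  obtain ⟨w, hw⟩ := Function.ne_iff.1 h
  have e := (((mem_eig ρ).1 h1).2 w).symm.trans (((mem_eig ρ).1 h2).2 w)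
  rw [← sub_eq_zero, ← sub_smul] at e
  exact (smul_eq_zero.1 e).resolve_left (sub_ne_zero.2 hw)

/-- The translated function. -/
def shift (hW : ∀ g ∈ R ⊔ zpowers b, g ∈ normalizer (W : Set S)) (g : ↥(R ⊔ zpowers b)) (χ : W → ZMod 3) :
    W → ZMod 3 :=
  fun w => χ ⟨(g : S)⁻¹ * w * g, (mem_normalizer_iff.1 (hW g g.2) _).2 (by
    rw [show (g : S) * ((g : S)⁻¹ * w * g) * (g : S)⁻¹ = w by group]; exact w.2)⟩

variable (C : Ctx ρ b R Q) (hW : ∀ g ∈ R ⊔ zpowers b, g ∈ normalizer (W : Set S))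

include C

theorem Ctx.map_eig (g : ↥(R ⊔ zpowers b)) {χ : W → ZMod 3} {v : E} (hv : v ∈ eig ρ R W χ) :
    ρ (g : S) v ∈ eig ρ R W (shift hW g χ) := by
  obtain ⟨hvM, hvw⟩ := (mem_eig ρ).1 hv
  refine (mem_eig ρ).2 ⟨C.mov_R_invariant g.2 hvM, fun w => ?_⟩
  have h := hvw ⟨(g : S)⁻¹ * w * g, (mem_normalizer_iff.1 (hW g g.2) _).2 (by
    rw [show (g : S) * ((g : S)⁻¹ * w * g) * (g : S)⁻¹ = w by group]; exact w.2)⟩
  rw [← rho_mul, show (w : S) * g = g * ((g : S)⁻¹ * w * g) by group, rho_mul, h, map_smul]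
  rfl

omit C in
theorem shift_mul (g h : ↥(R ⊔ zpowers b)) (χ : W → ZMod 3) :
    shift hW (g * h) χ = shift hW g (shift hW h χ) := by
  funext w
  simp only [shift]
  congr 1
  exact Subtype.ext (by simp [mul_assoc])

omit C in
theorem shift_one (χ : W → ZMod 3) : shift hW 1 χ = χ := by
  funext w
  simp only [shift]
  congr 1
  exact Subtype.ext (by simp)

theorem Ctx.decomp (hexp : ∀ w ∈ W, w ^ 2 = 1) (hab : ∀ x ∈ W, ∀ y ∈ W, x * y = y * x)
    (hWR : W ≤ R) : mov ρ R ≤ ⨆ χ, eig ρ R W χ := by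
  classical
  haveI := Fintype.ofFinite W
  suffices key : ∀ (s : Finset W) (χ : W → ZMod 3) (v : E), v ∈ mov ρ R →
      (∀ w : W, w ∉ s → ρ (w : S) v = χ w • v) → v ∈ ⨆ ψ, eig ρ R W ψ by
    intro v hv
    exact key Finset.univ 0 v hv fun w hw => absurd (Finset.mem_univ w) hw
  intro s
  induction s using Finset.induction with
  | empty =>
    intro χ v hv h
    exact Submodule.mem_iSup_of_mem χ ((mem_eig ρ).2 ⟨hv, fun w => h w (Finset.notMem_empty w)⟩)
  | insert a s ha ih =>
    intro χ v hv h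
    have haM : ρ (a : S) v ∈ mov ρ R := C.mov_R_invariant (le_sup_left (a := R) (hWR a.2)) hv
    have haa : ρ (a : S) (ρ (a : S) v) = v := by
      rw [← rho_mul, ← pow_two, hexp a a.2, map_one]; rfl
    have hcomm : ∀ w : W, w ∉ insert a s → ρ (w : S) (ρ (a : S) v) = χ w • ρ (a : S) v := by
      intro w hw
      rw [← rho_mul, hab w w.2 a a.2, rho_mul, h w hw, map_smul]
    have e : v = (2 : ZMod 3) • (v + ρ (a : S) v) + (2 : ZMod 3) • (v - ρ (a : S) v) := by
      rw [← smul_add, show v + ρ (a : S) v + (v - ρ (a : S) v) = (2 : ZMod 3) • v by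
        rw [show (2 : ZMod 3) = 1 + 1 by decide, add_smul, one_smul]; abel, smul_smul,
        show (2 : ZMod 3) * 2 = 1 by decide, one_smul]
    rw [e]
    refine add_mem (Submodule.smul_mem _ _ (ih (Function.update χ a 1) _ (add_mem hv haM) ?_))
      (Submodule.smul_mem _ _ (ih (Function.update χ a (-1)) _ (sub_mem hv haM) ?_))
    · intro w hw
      by_cases hwa : w = a
      · subst hwa
        rw [Function.update_self, one_smul, map_add, haa, add_comm]
      · have hw' : w ∉ insert a s := by simp [hwa, hw]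
        rw [Function.update_of_ne hwa, map_add, h w hw', hcomm w hw', smul_add]
    · intro w hw
      by_cases hwa : w = a
      · subst hwa
        rw [Function.update_self, neg_one_smul, map_sub, haa]; abel
      · have hw' : w ∉ insert a s := by simp [hwa, hw]
        rw [Function.update_of_ne hwa, map_sub, h w hw', hcomm w hw', smul_sub]

/-- The lines and their permutation. -/
theorem Ctx.lines (hWR : W ≤ R) (hexp : ∀ w ∈ W, w ^ 2 = 1)
    (hab : ∀ x ∈ W, ∀ y ∈ W, x * y = y * x) {w₀ : S} (hw₀ : w₀ ∈ W) (hne : b * w₀ ≠ w₀ * b)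
    (hWn : ∀ g ∈ R ⊔ zpowers b, g ∈ normalizer (W : Set S)) :
    ∃ (n : ℕ) (v : Fin n → E) (act : ↥(R ⊔ zpowers b) →* Equiv.Perm (Fin n)),
      LinearIndependent (ZMod 3) v ∧ Submodule.span (ZMod 3) (Set.range v) = mov ρ R ∧
      (∀ (g : ↥(R ⊔ zpowers b)) (i : Fin n), ∃ c : ZMod 3, c ≠ 0 ∧ ρ (g : S) (v i) = c • v (act g i)) ∧
      (∀ i j, ∃ g, act g i = j) ∧
      (act ⟨b, le_sup_right (a := R) (mem_zpowers b)⟩).IsThreeCycle := by
  classical
  haveI : Module.Finite (ZMod 3) E := Module.Finite.of_finite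
  haveI := Fintype.ofFinite W
  set L := eig ρ R W
  have hbH : b ∈ R ⊔ zpowers b := le_sup_right (a := R) (mem_zpowers b)
  set β : ↥(R ⊔ zpowers b) := ⟨b, hbH⟩ with hβ
  have hβ3 : β ^ 3 = 1 := Subtype.ext (by simpa [hβ] using C.pow_b)
  have hβ3' : β * (β * β) = 1 := by
    rw [← hβ3]; simp only [pow_succ, pow_zero, one_mul, mul_assoc]
  -- some eigenspace is moved
  obtain ⟨χ0, x, hx, hx0, hmove⟩ : ∃ χ0, ∃ x ∈ L χ0, x ≠ 0 ∧ shift hWn β χ0 ≠ χ0 := by
    by_contra hc
    push Not at hc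
    refine hne ?_
    have hb1 : b * w₀ * b⁻¹ ∈ W := (mem_normalizer_iff.1 (hWn b hbH) w₀).1 hw₀
    have hker : mov ρ R ≤ LinearMap.ker (ρ (b * w₀ * b⁻¹) - ρ w₀) := by
      refine (C.decomp hexp hab hWR).trans (iSup_le fun χ v hv => ?_)
      rw [mem_ker, LinearMap.sub_apply, sub_eq_zero, ((mem_eig ρ).1 hv).2 ⟨_, hb1⟩,
        ((mem_eig ρ).1 hv).2 ⟨w₀, hw₀⟩]
      by_cases hv0 : v = 0
      · simp [hv0]
      · have e : χ ⟨(β : S)⁻¹ * (b * w₀ * b⁻¹) * β, _⟩ = χ ⟨b * w₀ * b⁻¹, hb1⟩ :=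
          congrFun (hc χ v hv hv0) ⟨_, hb1⟩
        rw [← e]
        congr 2
        refine Subtype.ext ?_
        show b⁻¹ * (b * w₀ * b⁻¹) * b = w₀
        group
    have hd : (b * w₀ * b⁻¹)⁻¹ * w₀ ∈ R :=
      mul_mem (inv_mem (hWR hb1)) (hWR hw₀)
    have := C.eq_one_of_fix hd fun v hv => by
      have h := hker hv
      rw [mem_ker, LinearMap.sub_apply, sub_eq_zero] at h
      rw [rho_mul, ← h, rho_inv_apply]
    rw [inv_mul_eq_one, mul_inv_eq_iff_eq_mul] at this
    exact this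
  set χ1 := shift hWn β χ0 with hχ1
  set χ2 := shift hWn β χ1 with hχ2
  have h30 : shift hWn β χ2 = χ0 := by
    rw [hχ2, hχ1, ← shift_mul, ← shift_mul, mul_assoc, hβ3', shift_one]
  have h20 : χ2 ≠ χ0 := fun e => hmove (by
    conv_rhs => rw [← h30, e])
  have h21 : χ2 ≠ χ1 := fun e => hmove (by
    have e' := congrArg (shift hWn β) e
    rw [h30, ← hχ2, e] at e'
    exact e'.symm)
  set x1 := ρ b x with hx1def
  set x2 := ρ b x1 with hx2def
  have hx1 : x1 ∈ L χ1 := C.map_eig hWn β hx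
  have hx2 : x2 ∈ L χ2 := C.map_eig hWn β hx1
  have hx10 : x1 ≠ 0 := fun e => hx0 (by
    rw [← rho_inv_apply ρ b x, show ρ b x = 0 from e, map_zero])
  have hx20 : x2 ≠ 0 := fun e => hx10 (by
    rw [← rho_inv_apply ρ b x1, show ρ b x1 = 0 from e, map_zero])
  -- three vectors in a plane
  have htwo : ∀ z, z ∈ range (ρ b - 1) → ∃ a c d : ZMod 3, (a ≠ 0 ∨ c ≠ 0 ∨ d ≠ 0) ∧
      a • (x1 - x) + c • (x2 - x1) + d • z = 0 := by
    intro z hz
    by_contra hc
    push Not at hc
    let f : Fin 3 → range (ρ b - 1) := ![⟨x1 - x, x, by simp [hx1def]⟩, ⟨x2 - x1, x1, by simp [hx2def]⟩, ⟨z, hz⟩]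
    have hli : LinearIndependent (ZMod 3) f := by
      rw [Fintype.linearIndependent_iff]
      intro g hg
      have h := congrArg Subtype.val hg
      simp [Fin.sum_univ_three, f] at h
      by_contra hne'
      push Not at hne'
      obtain ⟨i, hi⟩ := hne'
      refine hc (g 0) (g 1) (g 2) ?_ h
      fin_cases i <;> simp at hi <;> tauto
    have := hli.fintype_card_le_finrank
    simp only [Fintype.card_fin] at this
    have := C.cubic.rank
    omega
  have hline : ∀ y ∈ L χ0, ∃ k : ZMod 3, k • x = y := by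
    intro y hy
    obtain ⟨a, c, d, hne', h⟩ := htwo (ρ b y - y) ⟨y, by simp⟩
    let v : (W → ZMod 3) → E := fun ψ => if ψ = χ0 then (-a) • x - d • y
      else if ψ = χ1 then (a - c) • x1 + d • ρ b y else c • x2
    have hmem : ∀ ψ ∈ ({χ0, χ1, χ2} : Finset (W → ZMod 3)), v ψ ∈ L ψ := by
      intro ψ hψ
      simp only [Finset.mem_insert, Finset.mem_singleton] at hψ
      rcases hψ with rfl | rfl | rfl
      · simp only [v, if_pos]; exact sub_mem (Submodule.smul_mem _ _ hx) (Submodule.smul_mem _ _ hy)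
      · simp only [v, if_neg hmove, if_pos]
        exact add_mem (Submodule.smul_mem _ _ hx1) (Submodule.smul_mem _ _ (C.map_eig hWn β hy))
      · simp only [v, if_neg h20, if_neg h21]; exact Submodule.smul_mem _ _ hx2
    have hsum : ∑ ψ ∈ ({χ0, χ1, χ2} : Finset (W → ZMod 3)), v ψ = 0 := by
      rw [Finset.sum_insert (by simp [hmove.symm, h20.symm]), Finset.sum_insert (by simp [h21.symm]),
        Finset.sum_singleton, ← h]
      simp only [v, if_pos, if_neg hmove, if_neg h20, if_neg h21, smul_sub, sub_smul, neg_smul]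
      abel
    have e0 := eig_indep _ v hmem hsum χ0 (by simp)
    have e2 := eig_indep _ v hmem hsum χ2 (by simp)
    simp only [v, if_pos] at e0
    simp only [v, if_neg h20, if_neg h21] at e2
    have hc0 := (smul_eq_zero.1 e2).resolve_right hx20
    by_cases hd : d = 0
    · subst hd
      rw [zero_smul, sub_zero] at e0
      have ha := neg_eq_zero.1 ((smul_eq_zero.1 e0).resolve_right hx0)
      simp [ha, hc0] at hne'
    · refine ⟨d⁻¹ * (-a), ?_⟩
      rw [← smul_smul, sub_eq_zero.1 e0, smul_smul, inv_mul_cancel₀ hd, one_smul]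
  have hfix : ∀ χ, χ ≠ χ0 → χ ≠ χ1 → χ ≠ χ2 → ∀ y ∈ L χ, y ≠ 0 → shift hWn β χ = χ := by
    intro χ n0 n1 n2 y hy hy0
    by_contra hmv
    obtain ⟨a, c, d, hne', h⟩ := htwo (ρ b y - y) ⟨y, by simp⟩
    set χ' := shift hWn β χ with hχ'
    have hinj : ∀ {ψ φ}, shift hWn β ψ = shift hWn β φ → ψ = φ := fun {ψ φ} e => by
      have := congrArg (fun t => shift hWn β (shift hWn β t)) e
      simp only [← shift_mul] at this
      rwa [show β * (β * β) = 1 from hβ3', shift_one, shift_one] at this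
    have m0 : χ' ≠ χ0 := fun e => n2 (hinj (e.trans h30.symm))
    have m1 : χ' ≠ χ1 := fun e => n0 (hinj e)
    have m2 : χ' ≠ χ2 := fun e => n1 (hinj e)
    let v : (W → ZMod 3) → E := fun ψ => if ψ = χ0 then (-a) • x else if ψ = χ1 then (a - c) • x1
      else if ψ = χ2 then c • x2 else if ψ = χ then (-d) • y else d • ρ b y
    have hmem : ∀ ψ ∈ ({χ0, χ1, χ2, χ, χ'} : Finset (W → ZMod 3)), v ψ ∈ L ψ := by
      intro ψ hψ
      simp only [Finset.mem_insert, Finset.mem_singleton] at hψ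
      rcases hψ with rfl | rfl | rfl | rfl | rfl
      · simp only [v, if_pos]; exact Submodule.smul_mem _ _ hx
      · simp only [v, if_neg hmove, if_pos]; exact Submodule.smul_mem _ _ hx1
      · simp only [v, if_neg h20, if_neg h21, if_pos]; exact Submodule.smul_mem _ _ hx2
      · simp only [v, if_neg n0, if_neg n1, if_neg n2, if_pos]; exact Submodule.smul_mem _ _ hy
      · simp only [v, if_neg m0, if_neg m1, if_neg m2, if_neg hmv]
        exact Submodule.smul_mem _ _ (C.map_eig hWn β hy)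
    have hsum : ∑ ψ ∈ ({χ0, χ1, χ2, χ, χ'} : Finset (W → ZMod 3)), v ψ = 0 := by
      rw [Finset.sum_insert (by simp [hmove.symm, h20.symm, n0.symm, m0.symm]),
        Finset.sum_insert (by simp [h21.symm, n1.symm, m1.symm]),
        Finset.sum_insert (by simp [n2.symm, m2.symm]),
        Finset.sum_insert (by simp [Ne.symm hmv]), Finset.sum_singleton, ← h]
      simp only [v, if_pos, if_neg hmove, if_neg h20, if_neg h21, if_neg n0, if_neg n1, if_neg n2,
        if_neg m0, if_neg m1, if_neg m2, if_neg hmv, smul_sub, sub_smul, neg_smul]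
      abel
    have e0 := eig_indep _ v hmem hsum χ0 (by simp)
    have e2 := eig_indep _ v hmem hsum χ2 (by simp)
    have e3 := eig_indep _ v hmem hsum χ (by simp)
    simp only [v, if_pos] at e0
    simp only [v, if_neg h20, if_neg h21, if_pos] at e2
    simp only [v, if_neg n0, if_neg n1, if_neg n2, if_pos] at e3
    have ha := neg_eq_zero.1 ((smul_eq_zero.1 e0).resolve_right hx0)
    have hc0 := (smul_eq_zero.1 e2).resolve_right hx20
    have hd := neg_eq_zero.1 ((smul_eq_zero.1 e3).resolve_right hy0)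
    simp [ha, hc0, hd] at hne'
  -- the points
  let Ω := {χ : W → ZMod 3 // L χ ≠ ⊥}
  haveI : Finite Ω := Subtype.finite
  have hnz : ∀ {χ : W → ZMod 3} {y : E}, y ∈ L χ → y ≠ 0 → L χ ≠ ⊥ := fun hy hy0 e => hy0 (by
    rw [e] at hy; exact (Submodule.mem_bot (ZMod 3)).1 hy)
  have hsh : ∀ (g : ↥(R ⊔ zpowers b)) (χ : Ω), L (shift hWn g χ.1) ≠ ⊥ := fun g χ => by
    obtain ⟨y, hy, hy0⟩ := Submodule.exists_mem_ne_zero_of_ne_bot χ.2
    exact hnz (C.map_eig hWn g hy) fun e => hy0 (by rw [← rho_inv_apply ρ (g : S) y, e, map_zero])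
  let actΩ : ↥(R ⊔ zpowers b) →* Equiv.Perm Ω :=
    { toFun := fun g =>
        { toFun := fun χ => ⟨shift hWn g χ.1, hsh g χ⟩
          invFun := fun χ => ⟨shift hWn g⁻¹ χ.1, hsh g⁻¹ χ⟩
          left_inv := fun χ => Subtype.ext (by simp [← shift_mul, shift_one])
          right_inv := fun χ => Subtype.ext (by simp [← shift_mul, shift_one]) }
      map_one' := Equiv.ext fun χ => Subtype.ext (shift_one hWn χ.1)
      map_mul' := fun g h => Equiv.ext fun χ => Subtype.ext (shift_mul hWn g h χ.1) }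
  let o0 : Ω := ⟨χ0, hnz hx hx0⟩
  have htr : ∀ χ : Ω, ∃ g, actΩ g o0 = χ := by
    intro χ
    set N : Submodule (ZMod 3) E := ⨆ g : ↥(R ⊔ zpowers b), L (shift hWn g χ0) with hN
    have hNinv : ∀ g ∈ R ⊔ zpowers b, ∀ y ∈ N, ρ g y ∈ N := by
      intro g hg y hy
      have hle : N ≤ N.comap (ρ g) := iSup_le fun h z hz => by
        refine Submodule.mem_iSup_of_mem (⟨g, hg⟩ * h) ?_
        rw [shift_mul]
        exact C.map_eig hWn ⟨g, hg⟩ hz
      exact hle hy
    have hNle : N ≤ mov ρ R := iSup_le fun g y hy => ((mem_eig ρ).1 hy).1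
    have hN0 : N ≠ ⊥ := fun e => hx0 ((Submodule.mem_bot (ZMod 3)).1
      (e ▸ Submodule.mem_iSup_of_mem 1 (by rw [shift_one]; exact hx)))
    have hNall := (C.irreducible N hNle (fun r hr => hNinv r (le_sup_left (b := zpowers b) hr))
      (hNinv b hbH)).resolve_left hN0
    by_contra hnot
    push Not at hnot
    obtain ⟨y, hy, hy0⟩ := Submodule.exists_mem_ne_zero_of_ne_bot χ.2
    have hyN : y ∈ N := hNall ▸ ((mem_eig ρ).1 hy).1
    rw [hN, Submodule.mem_iSup_iff_exists_finsupp] at hyN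
    obtain ⟨f, hf, hfs⟩ := hyN
    let v : (W → ZMod 3) → E := fun ψ => if ψ = χ.1 then -y else
      ∑ g ∈ f.support with shift hWn g χ0 = ψ, f g
    have hnot' : ∀ g, shift hWn g χ0 ≠ χ.1 := fun g e => hnot g (Subtype.ext e)
    have hmem : ∀ ψ ∈ insert χ.1 (f.support.image fun g => shift hWn g χ0), v ψ ∈ L ψ := by
      intro ψ _
      by_cases hψ : ψ = χ.1
      · subst hψ; simp only [v, if_pos]; exact neg_mem hy
      · simp only [v, if_neg hψ]
        exact Submodule.sum_mem _ fun g hg => (Finset.mem_filter.1 hg).2 ▸ hf g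
    have hsum : ∑ ψ ∈ insert χ.1 (f.support.image fun g => shift hWn g χ0), v ψ = 0 := by
      rw [Finset.sum_insert (by simp only [Finset.mem_image, not_exists, not_and]; exact fun g _ => hnot' g)]
      simp only [v, if_pos]
      rw [Finset.sum_congr rfl (g := fun ψ => ∑ g ∈ f.support with shift hWn g χ0 = ψ, f g) fun ψ hψ => by
        obtain ⟨g, -, rfl⟩ := Finset.mem_image.1 hψ
        rw [if_neg (hnot' g)], Finset.sum_fiberwise_of_maps_to (fun g hg => Finset.mem_image_of_mem _ hg)]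
      rw [show ∑ g ∈ f.support, f g = y from hfs, neg_add_cancel]
    have := eig_indep _ v hmem hsum χ.1 (Finset.mem_insert_self _ _)
    simp only [v, if_pos] at this
    exact hy0 (neg_eq_zero.1 this)
  haveI := Fintype.ofFinite Ω
  let e : Ω ≃ Fin (Fintype.card Ω) := Fintype.equivFin Ω
  have hex : ∀ χ : Ω, ∃ y ∈ L χ.1, y ≠ 0 ∧ ∀ z ∈ L χ.1, ∃ k : ZMod 3, k • y = z := by
    intro χ
    obtain ⟨g, hg⟩ := htr χ
    have hg' : shift hWn g χ0 = χ.1 := congrArg Subtype.val hg
    refine ⟨ρ (g : S) x, hg' ▸ C.map_eig hWn g hx, fun e => hx0 (by rw [← rho_inv_apply ρ (g : S) x, e, map_zero]),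
      fun z hz => ?_⟩
    have hz' : ρ ((g⁻¹ : ↥(R ⊔ zpowers b)) : S) z ∈ L χ0 := by
      have h := C.map_eig hWn g⁻¹ hz
      rwa [← hg', ← shift_mul, inv_mul_cancel, shift_one] at h
    obtain ⟨k, hk⟩ := hline _ hz'
    exact ⟨k, by rw [← map_smul, hk, Subgroup.coe_inv, rho_apply_inv]⟩
  choose y hy hy0 hy1 using hex
  refine ⟨Fintype.card Ω, fun i => y (e.symm i),
    (e.permCongrHom.toMonoidHom).comp actΩ, ?_, ?_, ?_, ?_, ?_⟩
  · rw [Fintype.linearIndependent_iff]
    intro c hc i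
    let v : (W → ZMod 3) → E := fun ψ => if h : L ψ ≠ ⊥ then c (e ⟨ψ, h⟩) • y ⟨ψ, h⟩ else 0
    have hmem : ∀ ψ ∈ Finset.univ.map ⟨fun χ : Ω => χ.1, Subtype.val_injective⟩, v ψ ∈ L ψ := by
      intro ψ _
      simp only [v]
      split
      · rename_i h; exact Submodule.smul_mem _ _ (hy ⟨ψ, h⟩)
      · exact zero_mem _
    have hsum : ∑ ψ ∈ Finset.univ.map ⟨fun χ : Ω => χ.1, Subtype.val_injective⟩, v ψ = 0 := by
      rw [Finset.sum_map]
      calc ∑ χ : Ω, v χ.1 = ∑ χ : Ω, c (e χ) • y χ := Finset.sum_congr rfl fun χ _ => dif_pos χ.2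
        _ = ∑ j, c j • y (e.symm j) := Fintype.sum_equiv e _ _ fun χ => by rw [e.symm_apply_apply]
        _ = 0 := hc
    have := eig_indep _ v hmem hsum (e.symm i).1 (Finset.mem_map.2 ⟨e.symm i, Finset.mem_univ _, rfl⟩)
    rw [show v (e.symm i).1 = c (e (e.symm i)) • y (e.symm i) from dif_pos (e.symm i).2, e.apply_symm_apply] at this
    exact (smul_eq_zero.1 this).resolve_right (hy0 _)
  · refine le_antisymm (Submodule.span_le.2 (by rintro _ ⟨i, rfl⟩; exact ((mem_eig ρ).1 (hy _)).1)) ?_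
    refine (C.decomp hexp hab hWR).trans (iSup_le fun χ z hz => ?_)
    by_cases h : L χ = ⊥
    · rw [show z = 0 from (Submodule.mem_bot (ZMod 3)).1 (h ▸ hz)]; exact zero_mem _
    · obtain ⟨k, hk⟩ := hy1 ⟨χ, h⟩ z hz
      rw [← hk]
      exact Submodule.smul_mem _ _ (Submodule.subset_span ⟨e ⟨χ, h⟩, by simp⟩)
  · intro g i
    have hm := C.map_eig hWn g (hy (e.symm i))
    obtain ⟨k, hk⟩ := hy1 (actΩ g (e.symm i)) _ hm
    refine ⟨k, fun h => hy0 (e.symm i) ?_, ?_⟩
    · rw [← rho_inv_apply ρ (g : S) (y (e.symm i)), ← hk, h, zero_smul, map_zero]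
    · simp [hk]
  · intro i j
    obtain ⟨g, hg⟩ := htr (e.symm i)
    obtain ⟨h, hh⟩ := htr (e.symm j)
    refine ⟨h * g⁻¹, ?_⟩
    have e' : actΩ (h * g⁻¹) (e.symm i) = e.symm j := by
      rw [← hg, ← Equiv.Perm.mul_apply, ← map_mul, inv_mul_cancel_right, hh]
    exact (congrArg e e').trans (e.apply_symm_apply j)
  · rw [← card_support_eq_three_iff]
    have hs : ((e.permCongrHom.toMonoidHom.comp actΩ) β).support =
        {e o0, e ⟨χ1, hnz hx1 hx10⟩, e ⟨χ2, hnz hx2 hx20⟩} := by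
      ext i
      have hmv : (e.permCongrHom.toMonoidHom.comp actΩ) β i ≠ i ↔ shift hWn β (e.symm i).1 ≠ (e.symm i).1 := by
        rw [not_iff_not]
        constructor
        · intro h
          have h' := congrArg (fun t => (e.symm t).1) h
          simpa [actΩ] using h'
        · intro h
          have h' : actΩ β (e.symm i) = e.symm i := Subtype.ext h
          simp [h']
      rw [Equiv.Perm.mem_support, hmv]
      simp only [Finset.mem_insert, Finset.mem_singleton, ← e.symm_apply_eq]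
      constructor
      · intro h
        by_contra hc
        simp only [not_or] at hc
        obtain ⟨z, hz, hz0⟩ := Submodule.exists_mem_ne_zero_of_ne_bot (e.symm i).2
        exact h (hfix _ (fun t => hc.1 (Subtype.ext t)) (fun t => hc.2.1 (Subtype.ext t))
          (fun t => hc.2.2 (Subtype.ext t)) z hz hz0)
      · rintro (h | h | h) <;> rw [h]
        · exact hmove
        · exact h21
        · exact h30 ▸ h20.symm
    rw [hs, Finset.card_eq_three]
    refine ⟨_, _, _, ?_, ?_, ?_, rfl⟩ <;> rw [Ne, e.injective.eq_iff] <;> intro h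
    · exact hmove (congrArg Subtype.val h).symm
    · exact h20 (congrArg Subtype.val h).symm
    · exact h21 (congrArg Subtype.val h).symm

end CfsgLib.CubicBlock
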