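import Cfsg.Agent.Lib.CubicBlock.Basic
import Cfsg.Agent.Lib.Coprime.Action
import Cfsg.Prelude.Def_Transfer

/-!
# A cubic block and a four group

The commutator part is irreducible, odd abelian normal subgroups are not moved, and odd nilpotent
subgroups of class two are not moved.
-/

set_option autoImplicit false
set_option linter.unusedSectionVars false
set_option linter.style.haveILetI false

namespace CfsgLib.CubicBlock

open Subgroup LinearMap

variable {S : Type*} [Group S] [Finite S] {E : Type*} [AddCommGroup E] [Module (ZMod 3) E] [Finite E]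
  (ρ : Representation (ZMod 3) S E)

/-- The situation. -/
structure Ctx (b : S) (R Q : Subgroup S) : Prop where
  faith : Function.Injective ρ
  cubic : Cubic ρ b
  ordb : orderOf b = 3
  coprime : ¬ 3 ∣ Nat.card R
  sol : Group.IsSolvable R
  bR : b ∈ normalizer (R : Set S)
  comm : ⁅R, zpowers b⁆ = R
  QR : Q ≤ R
  Qcard : Nat.card Q = 4
  Qexp : ∀ x ∈ Q, x ^ 2 = 1
  Qcomm : ∀ x ∈ Q, ∀ y ∈ Q, x * y = y * x
  bQ : b ∈ normalizer (Q : Set S)
  Qfpf : ∀ x ∈ Q, b * x = x * b → x = 1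

variable {ρ} {b : S} {R Q : Subgroup S} (C : Ctx ρ b R Q)

include C

theorem Ctx.not_dvd {W : Subgroup S} (h : W ≤ R) : ¬ 3 ∣ Nat.card W :=
  fun h' => C.coprime (h'.trans (Subgroup.card_dvd_of_le h))

theorem Ctx.pow_b : b ^ 3 = 1 := C.cubic.ord

theorem Ctx.zpowers_le {W : Subgroup S} (h : b ∈ normalizer (W : Set S)) :
    zpowers b ≤ normalizer (W : Set S) := Subgroup.zpowers_le.2 h

theorem Ctx.coprime_zpowers {W : Subgroup S} (h : W ≤ R) :
    (Nat.card (zpowers b)).Coprime (Nat.card W) := by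
  rw [Nat.card_zpowers, C.ordb]
  exact Nat.prime_three.coprime_iff_not_dvd.2 (C.not_dvd h)

theorem Ctx.mem_centralizer_iff {W : Subgroup S} :
    W ≤ centralizer (zpowers b : Set S) ↔ ∀ w ∈ W, b * w = w * b := by
  constructor
  · intro h w hw
    exact Subgroup.mem_centralizer_iff.1 (h hw) b (mem_zpowers b)
  · intro h w hw
    refine Subgroup.mem_centralizer_iff.2 fun y hy => ?_
    obtain ⟨k, rfl⟩ := mem_zpowers_iff.1 hy
    exact (Commute.zpow_left (h w hw) k).eq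

theorem Ctx.fixed_zpowers {w : S} (h : b * w = w * b) : w ∈ centralizer (zpowers b : Set S) := by
  refine Subgroup.mem_centralizer_iff.2 fun y hy => ?_
  obtain ⟨k, rfl⟩ := mem_zpowers_iff.1 hy
  exact (Commute.zpow_left h k).eq

/-- The moved part of an abelian subgroup. -/
theorem Ctx.exists_fpf {A : Subgroup S} (hA : A ≤ R) (hAb : b ∈ normalizer (A : Set S))
    (hab : ∀ x ∈ A, ∀ y ∈ A, x * y = y * x) {a : S} (ha : a ∈ A) (hne : b * a ≠ a * b) :
    ∃ W : Subgroup S, W ≤ A ∧ b ∈ normalizer (W : Set S) ∧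
      (∀ w ∈ W, b * w = w * b → w = 1) ∧ W ≠ ⊥ ∧ (∀ x ∈ A, x⁻¹ * (b * x * b⁻¹) ∈ W) := by
  have hAab : IsMulCommutative A := ⟨⟨fun x y => Subtype.ext (hab _ x.2 _ y.2)⟩⟩
  have hz := C.zpowers_le hAb
  have hle : ⁅A, zpowers b⁆ ≤ A := by
    conv_rhs => rw [← Coprime.commutator_sup_centralizer hz (C.coprime_zpowers hA)
      (Or.inl (Coprime.isSolvable_of_isMulCommutative inferInstance))]
    exact le_sup_left
  have hmem : ∀ x ∈ A, x⁻¹ * (b * x * b⁻¹) ∈ ⁅A, zpowers b⁆ := by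
    intro x hx
    have h := commutator_mem_commutator (inv_mem hx) (mem_zpowers b)
    rw [commutatorElement_def, inv_inv] at h
    rwa [show x⁻¹ * (b * x * b⁻¹) = x⁻¹ * b * x * b⁻¹ by group]
  refine ⟨⁅A, zpowers b⁆, hle, ?_, fun w hw hbw => ?_, fun h => ?_, hmem⟩
  · have := normalizer_commutator_ge_left (zpowers b) A
    rw [commutator_comm]
    exact this (mem_zpowers b)
  · have h := Coprime.centralizer_inf_commutator_eq_bot hAab hz (C.coprime_zpowers hA)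
    exact (Subgroup.mem_bot).1 (h ▸ ⟨⟨hle hw, C.fixed_zpowers hbw⟩, hw⟩)
  · have := hmem a ha
    rw [h, Subgroup.mem_bot, inv_mul_eq_one, eq_mul_inv_iff_mul_eq] at this
    exact hne this.symm

/-- Whatever `b` fixes pointwise modulo an invariant submodule, so does `R`. -/
theorem Ctx.fixed_of_b (M N : Submodule (ZMod 3) E) (hM : ∀ r ∈ R, ∀ v ∈ M, ρ r v ∈ M)
    (hN : ∀ r ∈ R, ∀ v ∈ N, ρ r v ∈ N) (hbM : ∀ v ∈ M, ρ b v ∈ M) (hbN : ∀ v ∈ N, ρ b v ∈ N)
    (h : ∀ v ∈ M, ρ b v - v ∈ N) : ∀ r ∈ R, ∀ v ∈ M, ρ r v - v ∈ N := by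
  let K : Subgroup S :=
    { carrier := {g | (∀ v ∈ M, ρ g v ∈ M ∧ ρ g⁻¹ v ∈ M) ∧ (∀ v ∈ N, ρ g v ∈ N ∧ ρ g⁻¹ v ∈ N) ∧
        ∀ v ∈ M, ρ g v - v ∈ N}
      one_mem' := by simp
      mul_mem' := by
        rintro g g' ⟨h1, h2, h3⟩ ⟨h1', h2', h3'⟩
        refine ⟨fun v hv => ⟨?_, ?_⟩, fun v hv => ⟨?_, ?_⟩, fun v hv => ?_⟩
        · rw [rho_mul]; exact (h1 _ (h1' v hv).1).1
        · rw [mul_inv_rev, rho_mul]; exact (h1' _ (h1 v hv).2).2
        · rw [rho_mul]; exact (h2 _ (h2' v hv).1).1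
        · rw [mul_inv_rev, rho_mul]; exact (h2' _ (h2 v hv).2).2
        · rw [rho_mul]
          have := add_mem (h3 _ (h1' v hv).1) (h3' v hv)
          rwa [sub_add_sub_cancel] at this
      inv_mem' := by
        rintro g ⟨h1, h2, h3⟩
        refine ⟨fun v hv => ⟨(h1 v hv).2, by rw [inv_inv]; exact (h1 v hv).1⟩,
          fun v hv => ⟨(h2 v hv).2, by rw [inv_inv]; exact (h2 v hv).1⟩, fun v hv => ?_⟩
        have := N.neg_mem (h3 _ (h1 v hv).2)
        rwa [rho_apply_inv, neg_sub] at this }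
  suffices hRK : R ≤ K from fun r hr => (hRK hr).2.2
  rw [← C.comm, commutator_le]
  intro r hr x hx
  obtain ⟨k, rfl⟩ := mem_zpowers_iff.1 hx
  have hbb : ∀ (P : Submodule (ZMod 3) E), (∀ v ∈ P, ρ b v ∈ P) → ∀ v ∈ P, ρ b⁻¹ v ∈ P := by
    intro P hP v hv
    rw [show b⁻¹ = b * b from inv_eq_of_mul_eq_one_right (by
      rw [← C.pow_b]; simp only [pow_succ, pow_zero, one_mul, mul_assoc]), rho_mul]
    exact hP _ (hP v hv)
  have hbK : b ^ k ∈ K := K.zpow_mem ⟨fun v hv => ⟨hbM v hv, hbb M hbM v hv⟩,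
    fun v hv => ⟨hbN v hv, hbb N hbN v hv⟩, h⟩ k
  obtain ⟨h1, h2, h3⟩ := hbK
  have h3' : ∀ v ∈ M, ρ ((b ^ k)⁻¹) v - v ∈ N := fun v hv => by
    have := N.neg_mem (h3 _ (h1 v hv).2)
    rwa [rho_apply_inv, neg_sub] at this
  refine ⟨fun v hv => ⟨?_, ?_⟩, fun v hv => ⟨?_, ?_⟩, fun v hv => ?_⟩
  · rw [commutatorElement_def, rho_mul, rho_mul, rho_mul]
    exact hM _ hr _ (h1 _ (hM _ (inv_mem hr) _ (h1 v hv).2)).1
  · rw [commutatorElement_def, mul_inv_rev, mul_inv_rev, mul_inv_rev, inv_inv, inv_inv,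
      rho_mul, rho_mul, rho_mul]
    exact (h1 _ (hM _ hr _ (h1 _ (hM _ (inv_mem hr) v hv)).2)).1
  · rw [commutatorElement_def, rho_mul, rho_mul, rho_mul]
    exact hN _ hr _ (h2 _ (hN _ (inv_mem hr) _ (h2 v hv).2)).1
  · rw [commutatorElement_def, mul_inv_rev, mul_inv_rev, mul_inv_rev, inv_inv, inv_inv,
      rho_mul, rho_mul, rho_mul]
    exact (h2 _ (hN _ hr _ (h2 _ (hN _ (inv_mem hr) v hv)).2)).1
  · rw [commutatorElement_def, rho_mul, rho_mul, rho_mul]
    set v' := ρ (b ^ k)⁻¹ v with hv'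
    have hv'M : v' ∈ M := (h1 v hv).2
    have e : ρ r (ρ (b ^ k) (ρ r⁻¹ v')) - v =
        ρ r (ρ (b ^ k) (ρ r⁻¹ v') - ρ r⁻¹ v') + (v' - v) := by
      rw [map_sub, rho_apply_inv]; abel
    rw [e]
    exact add_mem (hN _ hr _ (h3 _ (hM _ (inv_mem hr) _ hv'M))) (h3' v hv)

/-- `b - 1` squared kills `Q`. -/
theorem Ctx.q_fixed (M N : Submodule (ZMod 3) E) (hM : ∀ r ∈ R, ∀ v ∈ M, ρ r v ∈ M)
    (hN : ∀ r ∈ R, ∀ v ∈ N, ρ r v ∈ N) (h : ∀ v ∈ M, norm3 ρ b v ∈ N) :
    ∀ v ∈ M, v ∈ mov ρ Q → v ∈ N := fun _ hv hv' =>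
  mem_of_norm3_mem ρ Q (C.not_dvd C.QR) C.bQ C.pow_b C.Qfpf M N (fun w hw => hM w (C.QR hw))
    (fun w hw => hN w (C.QR hw)) h hv hv'

theorem Ctx.Q_ne : ∃ u ∈ Q, u ≠ 1 := by
  by_contra h
  push Not at h
  have : Q = ⊥ := (Subgroup.eq_bot_iff_forall Q).2 h
  have h4 := C.Qcard
  rw [this, Subgroup.card_bot] at h4
  omega

theorem Ctx.mov_R_invariant {g : S} (hg : g ∈ R ⊔ zpowers b) {v : E} (hv : v ∈ mov ρ R) :
    ρ g v ∈ mov ρ R :=
  mov_invariant ρ R C.coprime (sup_le le_normalizer (C.zpowers_le C.bR) hg) hv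

/-- A subgroup of `R` acting trivially on the commutator part is trivial. -/
theorem Ctx.eq_one_of_fix {r : S} (hr : r ∈ R) (h : ∀ v ∈ mov ρ R, ρ r v = v) : r = 1 :=
  C.faith ((rho_eq_one_of_forall_mov ρ R C.coprime hr h).trans (map_one ρ).symm)

theorem Ctx.irreducible (N : Submodule (ZMod 3) E) (hN : N ≤ mov ρ R)
    (hNR : ∀ r ∈ R, ∀ v ∈ N, ρ r v ∈ N) (hNb : ∀ v ∈ N, ρ b v ∈ N) : N = ⊥ ∨ N = mov ρ R := by
  classical
  haveI : Module.Finite (ZMod 3) E := Module.Finite.of_finite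
  set M := mov ρ R with hMdef
  have hMR : ∀ r ∈ R, ∀ v ∈ M, ρ r v ∈ M := fun r hr v hv => C.mov_R_invariant (le_sup_left (a := R) hr) hv
  have hMb : ∀ v ∈ M, ρ b v ∈ M := fun v hv => C.mov_R_invariant (le_sup_right (b := zpowers b) (mem_zpowers b)) hv
  by_contra hne
  rw [not_or] at hne
  have hbN : ¬ ∀ v ∈ N, ρ b v - v ∈ (⊥ : Submodule (ZMod 3) E) := by
    intro h
    refine hne.1 ((Submodule.eq_bot_iff _).2 fun v hv => ?_)
    have h' := C.fixed_of_b N ⊥ hNR (fun r _ u hu => by rw [Submodule.mem_bot] at hu ⊢; rw [hu, map_zero])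
      hNb (fun u hu => by rw [Submodule.mem_bot] at hu ⊢; rw [hu, map_zero]) h
    exact eq_zero_of_mem_mov ρ R C.coprime (hN hv) fun r hr =>
      sub_eq_zero.1 ((Submodule.mem_bot (ZMod 3)).1 (h' r hr v hv))
  have hbMN : ¬ ∀ v ∈ M, ρ b v - v ∈ N := by
    intro h
    refine hne.2 (le_antisymm hN fun v hv => ?_)
    have h' := C.fixed_of_b M N hMR hNR hMb hNb h
    haveI := Fintype.ofFinite R
    have h0 : avg ρ R v = 0 := mem_ker.1 hv
    rw [avg_apply] at h0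
    have h1 : ∑ w : R, ρ (w : S) v = 0 :=
      (smul_eq_zero.1 h0).resolve_left (inv_ne_zero (card_ne_zero R C.coprime))
    have h2 : (Nat.card R : ZMod 3) • v ∈ N := by
      have e : (Nat.card R : ZMod 3) • v = ∑ w : R, (v - ρ (w : S) v) := by
        rw [Finset.sum_sub_distrib, h1, sub_zero, Finset.sum_const, Finset.card_univ,
          ← Nat.card_eq_fintype_card, Nat.cast_smul_eq_nsmul]
      rw [e]
      exact Submodule.sum_mem _ fun w _ => by
        rw [← neg_sub]; exact N.neg_mem (h' w w.2 v hv)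
    exact (N.smul_mem_iff (card_ne_zero R C.coprime)).1 h2
  set L := LinearMap.range (ρ b - 1) with hL
  set A := N.map (ρ b - 1) with hA
  set B := M.map (ρ b - 1) with hB
  have hAB : A < B := by
    refine lt_of_le_of_ne (Submodule.map_mono hN) fun e => hbMN fun v hv => ?_
    have : (ρ b - 1) v ∈ A := e ▸ ⟨v, hv, rfl⟩
    obtain ⟨u, hu, he⟩ := this
    simp only [LinearMap.sub_apply, Module.End.one_apply] at he
    rw [← he]
    exact sub_mem (hNb u hu) hu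
  have hA0 : ⊥ < A := by
    refine bot_lt_iff_ne_bot.2 fun e => hbN fun v hv => ?_
    have : (ρ b - 1) v ∈ A := ⟨v, hv, rfl⟩
    rw [e] at this
    simpa using this
  have hB2 : Module.finrank (ZMod 3) B ≤ 2 :=
    (Submodule.finrank_mono LinearMap.map_le_range).trans C.cubic.rank
  have h1 := Submodule.finrank_lt_finrank_of_lt hAB
  have h0 := Submodule.finrank_lt_finrank_of_lt hA0
  rw [finrank_bot] at h0
  have hA1 : Module.finrank (ZMod 3) A = 1 := by omega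
  -- squares vanish on both sections
  have hmap : ∀ (P : Submodule (ZMod 3) E), (∀ v ∈ P, ρ b v ∈ P) → ∀ v ∈ P, ρ b v - v ∈ P :=
    fun P hP v hv => sub_mem (hP v hv) hv
  have hN0 : ∀ v ∈ N, norm3 ρ b v ∈ (⊥ : Submodule (ZMod 3) E) := by
    intro v hv
    rw [Submodule.mem_bot, norm3_eq]
    by_contra hx
    set x := ρ b v - v
    have hxA : x ∈ A := ⟨v, hv, by simp [x]⟩
    have hx0 : x ≠ 0 := fun e => hx (by rw [e, map_zero, sub_zero])
    have hxx : ρ b x - x ∈ A := ⟨x, hmap N hNb v hv, by simp⟩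
    have hsp : Submodule.span (ZMod 3) {x} = A := Submodule.eq_of_le_of_finrank_le
      ((Submodule.span_singleton_le_iff_mem _ _).2 hxA) (by rw [hA1, finrank_span_singleton hx0])
    obtain ⟨k, hk⟩ := Submodule.mem_span_singleton.1 (hsp ▸ hxx)
    -- `b x = (k + 1) x` with `b ^ 3 = 1`
    have hb : ρ b x = (k + 1) • x := by rw [add_smul, one_smul, hk]; abel
    have h3 : ρ (b ^ 3) x = ((k + 1) ^ 3) • x := by
      simp only [pow_succ, pow_zero, one_mul, rho_mul, hb, map_smul, smul_smul, mul_assoc]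
    rw [C.pow_b, map_one, Module.End.one_apply] at h3
    have h4 : ((k + 1) ^ 3 - 1) • x = 0 := by rw [sub_smul, one_smul, ← h3, sub_self]
    have h5 := (smul_eq_zero.1 h4).resolve_right hx0
    have h6 : ∀ k : ZMod 3, (k + 1) ^ 3 - 1 = 0 → k = 0 := by decide
    exact hx (by rw [← hk, h6 k h5, zero_smul])
  have hM0 : ∀ v ∈ M, norm3 ρ b v ∈ N := by
    intro v hv
    rw [norm3_eq]
    set x := ρ b v - v
    have hAN : A ≤ N := by
      rintro _ ⟨u, hu, rfl⟩; exact hmap N hNb u hu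
    have hxB : x ∈ B := ⟨v, hv, by simp [x]⟩
    by_cases hxA : x ∈ A
    · exact hmap N hNb x (hAN hxA)
    have hsp : A ⊔ Submodule.span (ZMod 3) {x} = B := by
      refine Submodule.eq_of_le_of_finrank_le (sup_le hAB.le ((Submodule.span_singleton_le_iff_mem _ _).2 hxB)) ?_
      have hlt : A < A ⊔ Submodule.span (ZMod 3) {x} := lt_of_le_of_ne le_sup_left fun e =>
        hxA (e ▸ le_sup_right (a := A) (Submodule.mem_span_singleton_self x))
      have := Submodule.finrank_lt_finrank_of_lt hlt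
      omega
    have hxx : ρ b x - x ∈ B := ⟨x, hmap M hMb v hv, by simp⟩
    rw [← hsp] at hxx
    obtain ⟨a, ha, c, hc, hac⟩ := Submodule.mem_sup.1 hxx
    obtain ⟨k, rfl⟩ := Submodule.mem_span_singleton.1 hc
    have haN : a ∈ N := hAN ha
    -- iterate
    have hb : ρ b x = a + (k + 1) • x := by rw [add_smul, one_smul, ← add_assoc, hac]; abel
    have h3 : ρ (b ^ 3) x - ((k + 1) ^ 3) • x ∈ N := by
      have e : ρ (b ^ 3) x = ρ b (ρ b a) + (k + 1) • ρ b a + (k + 1) ^ 2 • a + (k + 1) ^ 3 • x := by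
        simp only [pow_succ, pow_zero, one_mul, rho_mul, hb, map_add, map_smul, smul_add, smul_smul, mul_assoc]
        abel
      rw [e, add_sub_cancel_right]
      exact add_mem (add_mem (hNb _ (hNb _ haN)) (N.smul_mem _ (hNb _ haN))) (N.smul_mem _ haN)
    rw [C.pow_b, map_one, Module.End.one_apply] at h3
    have h6 : ∀ k : ZMod 3, (k + 1) ^ 3 = 1 → k = 0 := by decide
    by_cases hk : (k + 1) ^ 3 = 1
    · rw [h6 k hk, zero_smul, add_zero] at hac
      exact hac ▸ haN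
    · have : (1 - (k + 1) ^ 3) • x ∈ N := by rwa [sub_smul, one_smul]
      have hxN := (N.smul_mem_iff (sub_ne_zero.2 (Ne.symm hk))).1 this
      exact hmap N hNb x hxN
  obtain ⟨u, hu, hu1⟩ := C.Q_ne
  refine hu1 (C.eq_one_of_fix (C.QR hu) fun v hv => ?_)
  have hQ3 := C.not_dvd C.QR
  have hd := rho_sub_mem ρ Q hQ3 hu v
  have h1' : ρ u v - v ∈ N :=
    C.q_fixed M N hMR hNR hM0 _ (sub_mem (hMR u (C.QR hu) v hv) hv) hd
  have h2' := C.q_fixed N ⊥ hNR
    (fun r _ u hu => by rw [Submodule.mem_bot] at hu ⊢; rw [hu, map_zero]) hN0 _ h1' hd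
  exact sub_eq_zero.1 ((Submodule.mem_bot (ZMod 3)).1 h2')

end CfsgLib.CubicBlock
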