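import Cfsg.Agent.Lib.CubicBlock.Central

/-!
# The case of no moved elementary abelian normal `2`-subgroup is empty
-/

set_option autoImplicit false
set_option linter.unusedSectionVars false
set_option linter.style.haveILetI false

namespace CfsgLib.CubicBlock

open Subgroup LinearMap
open scoped commutatorElement

theorem two_pow_modEq : ∀ a < 7, ∀ r < 7, 2 ^ a % 13 = 2 ^ r % 13 → a = r := by decide

theorem conj_mem_iff {G : Type*} [Group G] {K : Subgroup G} {g : G}
    (hg : g ∈ normalizer (K : Set G)) {x : G} : g * x * g⁻¹ ∈ K ↔ x ∈ K :=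
  (mem_normalizer_iff.1 hg x).symm

variable {S : Type*} [Group S] [Finite S] {E : Type*} [AddCommGroup E] [Module (ZMod 3) E] [Finite E]
  {ρ : Representation (ZMod 3) S E} {b : S} {R Q : Subgroup S} (C : Ctx ρ b R Q)

include C

/-- A nontrivial central element moves every vector of the commutator part. -/
theorem Ctx.central_fpf {z : S} (hzR : z ∈ R) (hz : ∀ g ∈ R ⊔ zpowers b, z * g = g * z) (hz1 : z ≠ 1)
    {v : E} (hv : v ∈ mov ρ R) (hzv : ρ z v = v) : v = 0 := by
  let N : Submodule (ZMod 3) E := mov ρ R ⊓ LinearMap.ker (ρ z - 1)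
  have hmem : ∀ x, x ∈ N ↔ x ∈ mov ρ R ∧ ρ z x = x := fun x => by simp [N, sub_eq_zero]
  have hinv : ∀ g ∈ R ⊔ zpowers b, ∀ x ∈ N, ρ g x ∈ N := fun g hg x hx => by
    rw [hmem] at hx ⊢
    exact ⟨C.mov_R_invariant hg hx.1, by rw [← rho_mul, hz g hg, rho_mul, hx.2]⟩
  rcases C.irreducible N inf_le_left (fun r hr => hinv r (le_sup_left (b := zpowers b) hr))
    (hinv b (le_sup_right (a := R) (mem_zpowers b))) with h | h
  · exact (Submodule.mem_bot (ZMod 3)).1 (h ▸ (hmem v).2 ⟨hv, hzv⟩)
  · exact absurd (C.eq_one_of_fix hzR fun x hx => ((hmem x).1 (h ▸ hx)).2) hz1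

/-- Modulo its centre a class two subgroup with central derived group is linearly independent. -/
theorem Ctx.card_quotient_le {U : Subgroup S} (hU : U ≤ R)
    (hder : ∀ g ∈ R ⊔ zpowers b, ∀ c ∈ ⁅U, U⁆, g * c = c * g) :
    (center U).index ≤ Module.finrank (ZMod 3) (mov ρ R) * Module.finrank (ZMod 3) (mov ρ R) := by
  classical
  haveI : Module.Finite (ZMod 3) E := Module.Finite.of_finite
  set M := mov ρ R with hM
  have hRH : ∀ {r}, r ∈ R → r ∈ R ⊔ zpowers b := fun h => le_sup_left (b := zpowers b) h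
  have hUM : ∀ u : U, ∀ v ∈ M, ρ (u : S) v ∈ M := fun u v hv => C.mov_R_invariant (hRH (hU u.2)) hv
  haveI := Fintype.ofFinite (U ⧸ center U)
  let cls : Set (E →ₗ[ZMod 3] E) :=
    {f | (∀ v ∈ M, f v ∈ M) ∧ ∀ g ∈ R ⊔ zpowers b, ∀ v ∈ M, f (ρ g v) = ρ g (f v)}
  let o : U ⧸ center U → S := fun q => ((Quotient.out q : U) : S)
  have hoU : ∀ q, o q ∈ U := fun q => (Quotient.out q : U).2
  have key : ∀ (s : Finset (U ⧸ center U)) (k : U ⧸ center U → E →ₗ[ZMod 3] E),
      (∀ q ∈ s, k q ∈ cls) → (∀ v ∈ M, ∑ q ∈ s, k q (ρ (o q) v) = 0) →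
      ∀ q ∈ s, ∀ v ∈ M, k q v = 0 := by
    intro s
    induction s using Finset.induction with
    | empty => simp
    | insert a s ha ih =>
      intro k hk hrel
      have hs : ∀ q ∈ s, ∀ v ∈ M, k q v = 0 := by
        intro q hq v hv
        have hqa : q ≠ a := fun e => ha (e ▸ hq)
        obtain ⟨t, ht⟩ : ∃ t : U, ⁅o q, (t : S)⁆ ≠ ⁅o a, (t : S)⁆ := by
          by_contra hc
          push Not at hc
          refine hqa ?_
          rw [← QuotientGroup.out_eq' q, ← QuotientGroup.out_eq' a, QuotientGroup.eq]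
          refine Subgroup.mem_center_iff.2 fun t => Subtype.ext ?_
          have h := hc t
          simp only [o, commutatorElement_def] at h
          have h' : (Quotient.out q : U).1 * t * (Quotient.out q : U).1⁻¹ =
              (Quotient.out a : U).1 * t * (Quotient.out a : U).1⁻¹ := mul_right_cancel h
          show (t : S) * ((Quotient.out q : U).1⁻¹ * (Quotient.out a : U).1) =
            (Quotient.out q : U).1⁻¹ * (Quotient.out a : U).1 * t
          calc (t : S) * ((Quotient.out q : U).1⁻¹ * (Quotient.out a : U).1)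
              = (Quotient.out q : U).1⁻¹ * ((Quotient.out q : U).1 * t * (Quotient.out q : U).1⁻¹) *
                  (Quotient.out a : U).1 := by group
            _ = _ := by rw [h']; group
        let z : U ⧸ center U → S := fun p => ⁅o p, (t : S)⁆
        have hzder : ∀ p, z p ∈ ⁅U, U⁆ := fun p => commutator_mem_commutator (hoU p) t.2
        have hzR : ∀ p, z p ∈ R := fun p =>
          hU (commutator_le_self U (hzder p))
        have hzc : ∀ p, ∀ g ∈ R ⊔ zpowers b, z p * g = g * z p := fun p g hg => (hder g hg _ (hzder p)).symm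
        let k' : U ⧸ center U → E →ₗ[ZMod 3] E := fun p => k p ∘ₗ (ρ (z p) - ρ (z a))
        have hk' : ∀ p ∈ s, k' p ∈ cls := by
          intro p hp
          obtain ⟨h1, h2⟩ := hk p (Finset.mem_insert_of_mem hp)
          refine ⟨fun w hw => h1 _ (sub_mem (C.mov_R_invariant (hRH (hzR p)) hw)
            (C.mov_R_invariant (hRH (hzR a)) hw)), fun g hg w hw => ?_⟩
          simp only [k', LinearMap.comp_apply, LinearMap.sub_apply]
          rw [← rho_mul, ← rho_mul, hzc p g hg, hzc a g hg, rho_mul, rho_mul, ← map_sub,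
            h2 g hg _ (sub_mem (C.mov_R_invariant (hRH (hzR p)) hw) (C.mov_R_invariant (hRH (hzR a)) hw))]
        have hrel' : ∀ w ∈ M, ∑ p ∈ s, k' p (ρ (o p) w) = 0 := by
          intro w hw
          have htH : (t : S) ∈ R ⊔ zpowers b := hRH (hU t.2)
          have h1 : ∑ p ∈ insert a s, k p (ρ (z p) (ρ (o p) w)) = 0 := by
            have hw' : ρ (t : S)⁻¹ w ∈ M := C.mov_R_invariant (inv_mem htH) hw
            have h0 := hrel _ (C.mov_R_invariant (g := (t : S)) htH hw)
            have h0' := congrArg (ρ (t : S)⁻¹) h0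
            rw [map_sum, map_zero] at h0'
            rw [← h0']
            refine Finset.sum_congr rfl fun p hp => ?_
            rw [← (hk p hp).2 _ (inv_mem htH) _ (C.mov_R_invariant (hRH (hU (hoU p))) (C.mov_R_invariant htH hw)),
              ← rho_mul, ← rho_mul, ← rho_mul]
            congr 3
            calc z p * o p = z p * o p * ((t : S)⁻¹ * t) := by rw [inv_mul_cancel, mul_one]
              _ = (t : S)⁻¹ * (z p * (t : S)) * o p := by
                rw [hzc p _ htH, inv_mul_cancel_left, inv_mul_cancel, mul_one]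
              _ = (t : S)⁻¹ * o p * t := by simp only [z, commutatorElement_def]; group
          have hza : ρ (z a) w ∈ M := C.mov_R_invariant (hRH (hzR a)) hw
          have h2 : ∑ p ∈ insert a s, k p (ρ (z a) (ρ (o p) w)) = 0 := by
            rw [← hrel _ hza]
            refine Finset.sum_congr rfl fun p _ => ?_
            rw [← rho_mul, ← rho_mul, hzc a _ (hRH (hU (hoU p)))]
          have h3 : ∑ p ∈ insert a s, k' p (ρ (o p) w) = 0 := by
            simp only [k', LinearMap.comp_apply, LinearMap.sub_apply, map_sub]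
            rw [Finset.sum_sub_distrib, h1, h2, sub_zero]
          rw [Finset.sum_insert ha] at h3
          simpa [k'] using h3
        have hzero := ih k' hk' hrel' q hq
        -- the difference is onto `M`
        let d : M →ₗ[ZMod 3] M := (ρ (z q) - ρ (z a)).restrict fun w hw =>
          sub_mem (C.mov_R_invariant (hRH (hzR q)) hw) (C.mov_R_invariant (hRH (hzR a)) hw)
        have hd : Function.Injective d := by
          rw [← LinearMap.ker_eq_bot, Submodule.eq_bot_iff]
          rintro ⟨w, hw⟩ hdw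
          have e : ρ (z q) w - ρ (z a) w = 0 := congrArg Subtype.val hdw
          refine Subtype.ext (C.central_fpf (z := (z a)⁻¹ * z q) (mul_mem (inv_mem (hzR a)) (hzR q))
            (fun g hg => ?_) (fun h => ht (inv_mul_eq_one.1 h).symm) hw ?_)
          · rw [mul_assoc, hzc q g hg, ← mul_assoc, (Commute.inv_left (hzc a g hg)).eq, mul_assoc]
          · rw [rho_mul, sub_eq_zero.1 e, rho_inv_apply]
        obtain ⟨⟨w, hw⟩, e⟩ := LinearMap.injective_iff_surjective.1 hd ⟨v, hv⟩
        have e' : ρ (z q) w - ρ (z a) w = v := congrArg Subtype.val e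
        have := hzero w hw
        simp only [k', LinearMap.comp_apply, LinearMap.sub_apply] at this
        rwa [e'] at this
      intro q hq v hv
      rcases Finset.mem_insert.1 hq with rfl | hq'
      · have hv' : ρ (o q)⁻¹ v ∈ M := C.mov_R_invariant (inv_mem (hRH (hU (hoU q)))) hv
        have h := hrel _ hv'
        rw [Finset.sum_insert ha, Finset.sum_eq_zero fun p hp => hs p hp _
          (C.mov_R_invariant (hRH (hU (hoU p))) hv'), add_zero, rho_apply_inv] at h
        exact h
      · exact hs q hq' v hv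
  let F : U ⧸ center U → (M →ₗ[ZMod 3] M) := fun q => (ρ (o q)).restrict (hUM (Quotient.out q))
  have hli : LinearIndependent (ZMod 3) F := by
    rw [Fintype.linearIndependent_iff]
    intro c hc q
    by_contra hcq
    have h := key Finset.univ (fun p => c p • LinearMap.id) (fun p _ =>
      ⟨fun w hw => M.smul_mem _ hw, fun g _ w _ => by simp [map_smul]⟩) (fun v hv => by
        have h1 := congrArg Subtype.val (LinearMap.congr_fun hc ⟨v, hv⟩)
        simpa [F, LinearMap.sum_apply, LinearMap.restrict_apply] using h1) q (Finset.mem_univ q)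
    obtain ⟨u, hu, hu1⟩ := C.Q_ne
    refine hu1 (C.eq_one_of_fix (C.QR hu) fun v hv => ?_)
    have hv0 : v = 0 := by
      have := h v hv
      simp only [LinearMap.smul_apply, LinearMap.id_apply] at this
      exact (smul_eq_zero.1 this).resolve_left hcq
    rw [hv0, map_zero]
  have h := hli.fintype_card_le_finrank
  rwa [Module.finrank_linearMap, ← Nat.card_eq_fintype_card, ← Subgroup.index_eq_card] at h

/-- The case is empty. -/
theorem Ctx.false_of_noMoved (hB : NoMoved ρ b R) : False := by
  classical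
  haveI : Module.Finite (ZMod 3) E := Module.Finite.of_finite
  haveI : Fact (Nat.Prime 2) := ⟨Nat.prime_two⟩
  haveI hsolR : Group.IsSolvable R := C.sol
  have hbH : b ∈ R ⊔ zpowers b := le_sup_right (a := R) (mem_zpowers b)
  have hnorm : ∀ (K : Subgroup R) [K.Characteristic], R ⊔ zpowers b ≤ normalizer ((K.map R.subtype : Subgroup S) : Set S) :=
    fun K _ => C.hyper_norm.trans (CfsgLib.LS.normalizer_le_normalizer_map_char K)
  haveI := Coprime.pCore_characteristic (G := R) 2
  set U := (Cfsg.pCore 2 R).map R.subtype with hUdef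
  have hUn : R ⊔ zpowers b ≤ normalizer (U : Set S) := hnorm _
  have hUR : U ≤ R := map_subtype_le _
  have hU2 : IsPGroup 2 U := (Coprime.pCore_isPGroup 2).map _
  have hder : ∀ g ∈ R ⊔ zpowers b, ∀ c ∈ ⁅U, U⁆, g * c = c * g := by
    have hR := C.derived_central hB Nat.prime_two hU2 hUR hUn
    have hb : ∀ c ∈ ⁅U, U⁆, b * c = c * b := fun c hc =>
      C.center_fixed hB Nat.prime_two hU2 hUR hUn (commutator_le_self U hc)
        (fun y hy => (hR y (hUR hy) c hc).symm)
    have hle : R ⊔ zpowers b ≤ centralizer ((⁅U, U⁆ : Subgroup S) : Set S) :=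
      sup_le (fun r hr => Subgroup.mem_centralizer_iff.2 fun c hc => (hR r hr c hc).symm)
        (Subgroup.zpowers_le.2 (Subgroup.mem_centralizer_iff.2 fun c hc => (hb c hc).symm))
    exact fun g hg c hc => (Subgroup.mem_centralizer_iff.1 (hle hg) c hc).symm
  -- odd cores
  have hodd : ∀ q : Nat.Primes, (q : ℕ) ≠ 2 → ∀ x : R, x ∈ Cfsg.pCore (q : ℕ) R → b * (x : S) = x * b := by
    intro q hq2 x hx
    haveI : Fact (q : ℕ).Prime := ⟨q.2⟩
    haveI := Coprime.pCore_characteristic (G := R) (q : ℕ)
    exact C.odd_normal_fixed hB q.2 hq2 ((Coprime.pCore_isPGroup (q : ℕ)).map _) (map_subtype_le _)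
      (hnorm _) x ⟨x, hx, rfl⟩
  -- thirteen elements
  have h13 : ∀ x ∈ R, ∀ j : ℕ, x ^ 13 ^ j = 1 → b * x = x * b := by
    intro y hy j hyj
    by_cases hUfix : ∀ u ∈ U, b * u = u * b
    · -- then the Fitting subgroup is central
      exfalso
      have hF : Cfsg.fittingSubgroup R ≤ (centralizer (zpowers b : Set S)).subgroupOf R := by
        rw [Coprime.fitting_eq_iSup_pCore]
        refine iSup_le fun q x hx => ?_
        refine Subgroup.mem_subgroupOf.2 (C.fixed_zpowers ?_)
        by_cases hq : (q : ℕ) = 2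
        · rw [hq] at hx; exact hUfix _ ⟨x, hx, rfl⟩
        · exact hodd q hq x hx
      haveI := CfsgLib.Coprime.fitting_characteristic (G := R)
      have hcen := C.central_of_fixed (hnorm (Cfsg.fittingSubgroup R)) fun a ⟨x, hx, e⟩ => by
        rw [← e]; exact Subgroup.mem_centralizer_iff.1 (hF hx) b (mem_zpowers b)
      have hall : ∀ x : R, x ∈ Cfsg.fittingSubgroup R := fun x =>
        CfsgLib.Coprime.centralizer_fitting_le (Subgroup.mem_centralizer_iff.2 fun f hf =>
          Subtype.ext (hcen x x.2 f ⟨f, hf, rfl⟩).symm)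
      obtain ⟨u, hu, hu1⟩ := C.Q_ne
      exact hu1 (C.Qfpf u hu (Subgroup.mem_centralizer_iff.1 (hF (hall ⟨u, C.QR hu⟩)) b (mem_zpowers b)))
    push Not at hUfix
    obtain ⟨u, hu, hune⟩ := hUfix
    set w := u * b * u⁻¹ * b⁻¹
    have hbU : b ∈ normalizer (U : Set S) := hUn hbH
    have hwU : w ∈ U := by
      rw [show w = u * (b * u⁻¹ * b⁻¹) by simp only [w]; group]
      exact mul_mem hu ((mem_normalizer_iff.1 hbU _).1 (inv_mem hu))
    obtain ⟨v, hv, hwv⟩ : ∃ v ∈ U, w * v ≠ v * w := by
      by_contra hc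
      push Not at hc
      exact hune (C.eq_of_comm_fixed (hUR hu) (C.center_fixed hB Nat.prime_two hU2 hUR hUn hwU hc))
    set z := ⁅w, v⁆ with hzdef
    have hzd : z ∈ ⁅U, U⁆ := commutator_mem_commutator hwU hv
    have hz1 : z ≠ 1 := fun e => hwv (commutatorElement_eq_one_iff_mul_comm.1 e)
    have hzR : z ∈ R := hUR (commutator_le_self U hzd)
    have hdim : Module.finrank (ZMod 3) (mov ρ R) ≤ 8 := by
      have hrw : Module.finrank (ZMod 3) (range (ρ w - 1)) ≤ 4 := by
        have h := finrank_range_mul_sub_le ρ (u * b * u⁻¹) b⁻¹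
        rw [finrank_range_conj_sub, finrank_range_inv_sub] at h
        have := C.cubic.rank
        change Module.finrank (ZMod 3) (range (ρ w - 1)) ≤ _ at h
        omega
      have hrz : Module.finrank (ZMod 3) (range (ρ z - 1)) ≤ 8 := by
        have h := finrank_range_mul_sub_le ρ w (v * w⁻¹ * v⁻¹)
        rw [finrank_range_conj_sub, finrank_range_inv_sub] at h
        rw [show z = w * (v * w⁻¹ * v⁻¹) by rw [hzdef, commutatorElement_def]; group]
        omega
      refine le_trans ?_ hrz
      let g : mov ρ R →ₗ[ZMod 3] range (ρ z - 1) := (ρ z - 1).rangeRestrict ∘ₗ (mov ρ R).subtype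
      refine LinearMap.finrank_le_finrank_of_injective (f := g) ?_
      rw [← LinearMap.ker_eq_bot, Submodule.eq_bot_iff]
      rintro ⟨x, hx⟩ hgx
      have e : ρ z x - x = 0 := congrArg Subtype.val hgx
      exact Subtype.ext (C.central_fpf hzR (fun g hg => (hder g hg z hzd).symm) hz1 hx (sub_eq_zero.1 e))
    have hidx : (center U).index ≤ 64 :=
      (C.card_quotient_le hUR hder).trans ((Nat.mul_le_mul hdim hdim).trans (by norm_num))
    -- `y` acts trivially modulo the centre
    have hyU : y ∈ normalizer (U : Set S) := hUn (le_sup_left (b := zpowers b) hy)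
    have hzn : zpowers y ≤ normalizer (U : Set S) := Subgroup.zpowers_le.2 hyU
    let cj : zpowers y → U ≃* U := fun a =>
      { toFun := fun x => ⟨(a : S) * x * (a : S)⁻¹, (conj_mem_iff (hzn a.2)).2 x.2⟩
        invFun := fun x => ⟨(a : S)⁻¹ * x * a, (conj_mem_iff (hzn a.2)).1 (by
          rw [show (a : S) * ((a : S)⁻¹ * x * a) * (a : S)⁻¹ = x by group]; exact x.2)⟩
        left_inv := fun x => Subtype.ext (by show (a : S)⁻¹ * ((a : S) * x * (a : S)⁻¹) * a = x; group)
        right_inv := fun x => Subtype.ext (by show (a : S) * ((a : S)⁻¹ * x * a) * (a : S)⁻¹ = x; group)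
        map_mul' := fun x x' => Subtype.ext (by simp [mul_assoc]) }
    have hcenter : ∀ a, center U ≤ (center U).comap (cj a).toMonoidHom := fun a =>
      ((inferInstance : (center U).Characteristic).fixed (cj a)).ge
    let π : zpowers y → (U ⧸ center U →* U ⧸ center U) := fun a =>
      QuotientGroup.map (center U) (center U) (cj a).toMonoidHom (hcenter a)
    letI : MulAction (zpowers y) (U ⧸ center U) :=
      { smul := fun a x => π a x
        one_smul := fun x => by
          obtain ⟨x, rfl⟩ := QuotientGroup.mk_surjective x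
          show QuotientGroup.mk (cj 1 x) = QuotientGroup.mk x
          exact congrArg _ (Subtype.ext (by
            show ((1 : zpowers y) : S) * x * ((1 : zpowers y) : S)⁻¹ = x; simp))
        mul_smul := fun a a' x => by
          obtain ⟨x, rfl⟩ := QuotientGroup.mk_surjective x
          show QuotientGroup.mk (cj (a * a') x) = QuotientGroup.mk (cj a (cj a' x))
          exact congrArg _ (Subtype.ext (by
            show ((a * a' : zpowers y) : S) * x * ((a * a' : zpowers y) : S)⁻¹ =
              (a : S) * ((a' : S) * x * (a' : S)⁻¹) * (a : S)⁻¹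
            simp [mul_assoc])) }
    haveI : Fact (Nat.Prime 13) := ⟨by norm_num⟩
    have h13p : IsPGroup 13 (zpowers y) := by
      obtain ⟨i, -, hi⟩ := (Nat.dvd_prime_pow (by norm_num : Nat.Prime 13)).1 (orderOf_dvd_of_pow_eq_one hyj)
      exact IsPGroup.of_card (n := i) (by rw [Nat.card_zpowers, hi])
    let Fx : Subgroup (U ⧸ center U) :=
      { carrier := MulAction.fixedPoints (zpowers y) (U ⧸ center U)
        one_mem' := fun a => map_one (π a)
        mul_mem' := fun {x x'} hx hx' a => by
          show π a (x * x') = x * x'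
          rw [map_mul, show π a x = x from hx a, show π a x' = x' from hx' a]
        inv_mem' := fun {x} hx a => by
          show π a x⁻¹ = x⁻¹
          rw [map_inv, show π a x = x from hx a] }
    have hVp : IsPGroup 2 (U ⧸ center U) := hU2.to_quotient _
    obtain ⟨r, hr⟩ := IsPGroup.iff_card.1 hVp
    obtain ⟨a0, ha0⟩ := IsPGroup.iff_card.1 (hVp.to_subgroup Fx)
    have hle : a0 ≤ r := by
      refine (Nat.pow_le_pow_iff_right (le_refl 2)).1 ?_
      rw [← hr, ← ha0]
      exact Fx.card_le_card_group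
    have hr6 : r ≤ 6 := by
      refine (Nat.pow_le_pow_iff_right (le_refl 2)).1 ?_
      rw [← hr, ← Subgroup.index_eq_card]
      exact hidx
    have hmod : 2 ^ r % 13 = 2 ^ a0 % 13 := by
      rw [← hr, ← ha0]
      exact h13p.card_modEq_card_fixedPoints (U ⧸ center U)
    have har := two_pow_modEq r (by omega) a0 (by omega) hmod
    have hFx : Fx = ⊤ := Subgroup.eq_top_of_card_eq _ (by rw [hr, ha0, har])
    have hcentr : ∀ x ∈ U, y * x = x * y := by
      intro x hx
      have h1 : (QuotientGroup.mk (⟨x, hx⟩ : U) : U ⧸ center U) ∈ Fx := hFx ▸ Subgroup.mem_top _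
      have h2 := h1 ⟨y, mem_zpowers y⟩
      change QuotientGroup.mk (cj ⟨y, mem_zpowers y⟩ ⟨x, hx⟩) = QuotientGroup.mk (⟨x, hx⟩ : U) at h2
      have h3 := QuotientGroup.eq.1 h2.symm
      set c : S := x⁻¹ * (y * x * y⁻¹) with hc
      have hcU : c ∈ U := mul_mem (inv_mem hx) ((mem_normalizer_iff.1 hyU x).1 hx)
      have hcc : ∀ s ∈ U, c * s = s * c := fun s hs => by
        have h := congrArg Subtype.val (Subgroup.mem_center_iff.1 h3 ⟨s, hs⟩)
        exact h.symm
      have hcy : y * c = c * y := by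
        refine C.central_of_fixed (A := U ⊓ centralizer (U : Set S)) (Coprime.inf_le_normalizer hUn
          (hUn.trans (Coprime.normalizer_le_normalizer_centralizer U))) (fun a ha => ?_) y hy c
          ⟨hcU, Subgroup.mem_centralizer_iff.2 fun s hs => (hcc s hs).symm⟩
        exact C.center_fixed hB Nat.prime_two hU2 hUR hUn ha.1 fun s hs =>
          (Subgroup.mem_centralizer_iff.1 ha.2 s hs).symm
      have hpow : ∀ n : ℕ, y ^ n * x * (y ^ n)⁻¹ = x * c ^ n := by
        intro n
        induction n with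
        | zero => simp
        | succ n ih =>
          calc y ^ (n + 1) * x * (y ^ (n + 1))⁻¹ = y * (y ^ n * x * (y ^ n)⁻¹) * y⁻¹ := by
                rw [pow_succ']; group
            _ = y * x * y⁻¹ * (y * c ^ n * y⁻¹) := by rw [ih]; group
            _ = x * c * (c ^ n * y * y⁻¹) := by
                rw [(Commute.pow_right hcy n).eq, hc]; group
            _ = x * c ^ (n + 1) := by rw [pow_succ']; group
      have h4 := hpow (13 ^ j)
      rw [hyj, one_mul, inv_one, mul_one] at h4
      have h5 : c ^ 13 ^ j = 1 := mul_eq_left.1 h4.symm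
      obtain ⟨i, hi⟩ := hU2 ⟨c, hcU⟩
      have hi' : c ^ 2 ^ i = 1 := by simpa using congrArg Subtype.val hi
      have hc1 := pow_gcd_eq_one.2 ⟨h5, hi'⟩
      rw [Nat.Coprime.pow j i (by norm_num : Nat.Coprime 13 2), pow_one] at hc1
      rw [hc, inv_mul_eq_one, eq_mul_inv_iff_mul_eq] at hc1
      exact hc1.symm
    -- so it lies in the Fitting subgroup
    have hyF : (⟨y, hy⟩ : R) ∈ Cfsg.fittingSubgroup R := by
      refine CfsgLib.Coprime.centralizer_fitting_le ?_
      have hle : Cfsg.fittingSubgroup R ≤ centralizer ({(⟨y, hy⟩ : R)} : Set R) := by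
        rw [Coprime.fitting_eq_iSup_pCore]
        refine iSup_le fun q x hx => Subgroup.mem_centralizer_singleton_iff.2 (Subtype.ext ?_)
        by_cases hq : (q : ℕ) = 2
        · rw [hq] at hx; exact (hcentr _ ⟨x, hx, rfl⟩).symm
        · haveI : Fact (q : ℕ).Prime := ⟨q.2⟩
          haveI := Coprime.pCore_characteristic (G := R) (q : ℕ)
          exact (C.central_of_fixed (hnorm (Cfsg.pCore (q : ℕ) R)) (fun a ⟨x', hx', e⟩ => by
            rw [← e]; exact hodd q hq x' hx') y hy x ⟨x, hx, rfl⟩).symm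
      exact Subgroup.mem_centralizer_iff.2 fun f hf => (Subgroup.mem_centralizer_singleton_iff.1 (hle hf))
    -- and is fixed
    let Cc : Subgroup R := (centralizer (zpowers b : Set S)).subgroupOf R ⊓ center R
    haveI := Coprime.pCore_normal' (G := R) 2
    have hF2 : Cfsg.fittingSubgroup R ≤ Cfsg.pCore 2 R ⊔ Cc := by
      rw [Coprime.fitting_eq_iSup_pCore]
      refine iSup_le fun q x hx => ?_
      by_cases hq : (q : ℕ) = 2
      · rw [hq] at hx; exact mem_sup_left hx
      · refine mem_sup_right ⟨Subgroup.mem_subgroupOf.2 (C.fixed_zpowers (hodd q hq x hx)),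
          Subgroup.mem_center_iff.2 fun r => Subtype.ext ?_⟩
        haveI : Fact (q : ℕ).Prime := ⟨q.2⟩
        haveI := Coprime.pCore_characteristic (G := R) (q : ℕ)
        exact C.central_of_fixed (hnorm (Cfsg.pCore (q : ℕ) R)) (fun a ⟨x', hx', e⟩ => by
          rw [← e]; exact hodd q hq x' hx') r r.2 x ⟨x, hx, rfl⟩
    obtain ⟨f, hf, g, hg, hfg⟩ := Subgroup.mem_sup_of_normal_left.1 (hF2 hyF)
    have hfg' : (f : S) * (g : S) = y := congrArg Subtype.val hfg
    have hgb : b * (g : S) = (g : S) * b := Subgroup.mem_centralizer_iff.1 hg.1 b (mem_zpowers b)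
    have hcomm : Commute (f : S) (g : S) := congrArg Subtype.val (Subgroup.mem_center_iff.1 hg.2 f)
    have hpow : (f : S) ^ 13 ^ j * (g : S) ^ 13 ^ j = 1 := by rw [← hcomm.mul_pow, hfg', hyj]
    have hfb : Commute b ((f : S) ^ 13 ^ j) := by
      rw [eq_inv_of_mul_eq_one_left hpow]
      exact (Commute.pow_right hgb _).inv_right
    have hfb' : Commute b (f : S) := by
      obtain ⟨i, hi⟩ := Coprime.pCore_isPGroup 2 ⟨f, hf⟩
      have hi' : (f : S) ^ 2 ^ i = 1 := by
        simpa using congrArg Subtype.val (congrArg Subtype.val hi)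
      obtain ⟨m, hm⟩ := exists_pow_eq_self_of_coprime (x := (f : S)) (n := 13 ^ j)
        ((Nat.Coprime.pow j i (by norm_num : Nat.Coprime 13 2)).coprime_dvd_right (orderOf_dvd_of_pow_eq_one hi'))
      rw [← hm]
      exact hfb.pow_right m
    rw [← hfg']
    exact (hfb'.mul_right hgb).eq
  -- invariant odd Sylow subgroups are fixed
  have hsyl : ∀ q : Nat.Primes, (q : ℕ) ≠ 2 → ∀ Y : Subgroup S, IsPGroup (q : ℕ) Y → Y ≤ R →
      b ∈ normalizer (Y : Set S) → ∀ a ∈ Y, b * a = a * b := by
    intro q hq2 Y hYq hY hbY a ha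
    by_cases hq : (q : ℕ) = 13
    · obtain ⟨j, hj⟩ := hYq ⟨a, ha⟩
      rw [hq] at hj
      exact h13 a (hY ha) j (by simpa using congrArg Subtype.val hj)
    · exact C.qgroup_fixed q.2 hq2 hq _ Y rfl hYq hY hbY a ha
  -- so the quotient by the `2`-core is trivial
  have hU' : ∀ x : R, x ∈ Cfsg.pCore 2 R := by
    set P2 := Cfsg.pCore 2 R
    haveI : P2.Normal := Coprime.pCore_normal' 2
    set π := QuotientGroup.mk' P2
    haveI : Group.IsSolvable (R ⧸ P2) :=
      Group.isSolvable_of_surjective (f := π) (QuotientGroup.mk'_surjective P2)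
    have hmodU : ∀ {x : R}, x ∈ P2 ↔ (x : S) ∈ U := fun {x} =>
      ⟨fun h => ⟨x, h, rfl⟩, fun ⟨x', h, e⟩ => (Subtype.ext e : x' = x) ▸ h⟩
    -- the cores of the quotient are central, fixed and lift to fixed elements
    have hcore : ∀ q : Nat.Primes, ∀ x : R, π x ∈ Cfsg.pCore (q : ℕ) (R ⧸ P2) →
        (∀ r : R, π r * π x = π x * π r) ∧ ∃ c : R, b * (c : S) = c * b ∧ π c = π x := by
      intro q x hx
      haveI : Fact (q : ℕ).Prime := ⟨q.2⟩
      set Nq := (Cfsg.pCore (q : ℕ) (R ⧸ P2)).comap π
      haveI : (Cfsg.pCore (q : ℕ) (R ⧸ P2)).Normal := Coprime.pCore_normal' (q : ℕ)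
      haveI hNqn : Nq.Normal := Subgroup.Normal.comap inferInstance π
      by_cases hq2 : (q : ℕ) = 2
      · have hNp : IsPGroup 2 Nq := IsPGroup.comap_of_ker_isPGroup
          (by have := Coprime.pCore_isPGroup (G := R ⧸ P2) (q : ℕ); nth_rewrite 1 [hq2] at this; exact this) π
          (by rw [QuotientGroup.ker_mk']; exact Coprime.pCore_isPGroup 2)
        have hxP : x ∈ P2 := Coprime.le_pCore hNp (Subgroup.mem_comap.2 hx)
        have e : π x = 1 := (QuotientGroup.eq_one_iff x).2 hxP
        exact ⟨fun r => by rw [e, mul_one, one_mul], 1, by simp, by rw [e, map_one]⟩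
      have hzR : zpowers b ≤ normalizer (R : Set S) := C.zpowers_le C.bR
      obtain ⟨Y, hY, hbY⟩ := Coprime.exists_invariant_sylow (A := zpowers b) (K := R) hzR
        (C.coprime_zpowers le_rfl) (Or.inr C.sol) (q : ℕ)
      have hYle : Y ≤ R := hY.1
      have hfixY := hsyl q hq2 Y hY.isPGroup hYle (hbY (mem_zpowers b))
      let P : Sylow (q : ℕ) R := hY.toSylow
      have hcov : ∀ n : R, n ∈ Nq → ∃ c : R, b * (c : S) = c * b ∧ π c = π n := by
        intro n hn
        have hle : Cfsg.pCore (q : ℕ) (R ⧸ P2) ≤ (P.mapSurjective (f := π) (QuotientGroup.mk'_surjective P2) : Subgroup (R ⧸ P2)) :=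
          Coprime.pCore_le_sylow _
        have hm := hle (Subgroup.mem_comap.1 hn)
        rw [Sylow.coe_mapSurjective] at hm
        obtain ⟨c, hc, e⟩ := Subgroup.mem_map.1 hm
        exact ⟨c, hfixY _ (Subgroup.mem_subgroupOf.1 hc), e⟩
      refine ⟨?_, hcov x hx⟩
      -- `b` centralises the image, hence so does `R`
      let K : Subgroup S :=
        { carrier := {g | g ∈ R ⊔ zpowers b ∧ ∀ n : R, n ∈ Nq → g * n * g⁻¹ * (n : S)⁻¹ ∈ U}
          one_mem' := ⟨one_mem _, fun n _ => by simp⟩
          mul_mem' := by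
            rintro g g' ⟨hg, h1⟩ ⟨hg', h2⟩
            refine ⟨mul_mem hg hg', fun n hn => ?_⟩
            have e : g * g' * (n : S) * (g * g')⁻¹ * (n : S)⁻¹ =
                g * (g' * n * g'⁻¹ * (n : S)⁻¹) * g⁻¹ * (g * n * g⁻¹ * (n : S)⁻¹) := by group
            rw [e]
            exact mul_mem ((mem_normalizer_iff.1 (hUn hg) _).1 (h2 n hn)) (h1 n hn)
          inv_mem' := by
            rintro g ⟨hg, h1⟩
            refine ⟨inv_mem hg, fun n hn => ?_⟩
            have := (mem_normalizer_iff.1 (hUn (inv_mem hg)) _).1 (inv_mem (h1 n hn))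
            convert this using 1
            group }
      have hbK : b ∈ K := by
        refine ⟨hbH, fun n hn => ?_⟩
        obtain ⟨c, hc, hcn⟩ := hcov n hn
        have hd : c⁻¹ * n ∈ P2 := QuotientGroup.eq.1 hcn
        have hd' := hmodU.1 hd
        set d : S := ((c⁻¹ * n : R) : S) with hdd
        have hn' : (n : S) = (c : S) * d := by simp [hdd]
        rw [hn', show b * ((c : S) * d) * b⁻¹ * ((c : S) * d)⁻¹ =
          (b * (c : S)) * d * b⁻¹ * d⁻¹ * (c : S)⁻¹ by group, hc,
          show (c : S) * b * d * b⁻¹ * d⁻¹ * (c : S)⁻¹ = (c : S) * (b * d * b⁻¹ * d⁻¹) * (c : S)⁻¹ by group]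
        exact (mem_normalizer_iff.1 (hUn (le_sup_left (b := zpowers b) c.2)) _).1
          (mul_mem ((mem_normalizer_iff.1 (hUn hbH) _).1 hd') (inv_mem hd'))
      have hKn : ∀ r : R, (r : S) ∈ normalizer (K : Set S) := by
        intro r
        have hrH : (r : S) ∈ R ⊔ zpowers b := le_sup_left (b := zpowers b) r.2
        have key : ∀ r : R, ∀ g ∈ K, (r : S) * g * (r : S)⁻¹ ∈ K := by
          rintro r g ⟨hg, h1⟩
          have hrH : (r : S) ∈ R ⊔ zpowers b := le_sup_left (b := zpowers b) r.2
          refine ⟨mul_mem (mul_mem hrH hg) (inv_mem hrH), fun n hn => ?_⟩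
          have h := (mem_normalizer_iff.1 (hUn hrH) _).1 (h1 (r⁻¹ * n * r) (by
            have := hNqn.conj_mem n hn r⁻¹
            rwa [inv_inv] at this))
          convert h using 1
          simp only [Subgroup.coe_mul, Subgroup.coe_inv]
          group
        refine mem_normalizer_iff.2 fun g => ⟨key r g, fun hg => ?_⟩
        have h := key r⁻¹ _ hg
        rwa [Subgroup.coe_inv, show (r : S)⁻¹ * ((r : S) * g * (r : S)⁻¹) * (r : S)⁻¹⁻¹ = g by group] at h
      have hRK : R ≤ K := by
        conv_lhs => rw [← C.comm]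
        rw [commutator_le]
        intro r hr y hy
        obtain ⟨k, rfl⟩ := mem_zpowers_iff.1 hy
        rw [commutatorElement_def]
        exact mul_mem ((mem_normalizer_iff.1 (hKn ⟨r, hr⟩) _).1 (K.zpow_mem hbK k)) (inv_mem (K.zpow_mem hbK k))
      intro r
      have h := (hRK r.2).2 x hx
      have e : π (r * x * r⁻¹ * x⁻¹) = 1 := (QuotientGroup.eq_one_iff _).2 (hmodU.2 h)
      rw [map_mul, map_mul, map_mul, map_inv, map_inv, mul_inv_eq_one, mul_inv_eq_iff_eq_mul] at e
      exact e
    have hFc : Cfsg.fittingSubgroup (R ⧸ P2) ≤ center (R ⧸ P2) := by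
      rw [Coprime.fitting_eq_iSup_pCore]
      refine iSup_le fun q x hx => ?_
      obtain ⟨x, rfl⟩ := QuotientGroup.mk'_surjective P2 x
      refine Subgroup.mem_center_iff.2 fun r => ?_
      obtain ⟨r, rfl⟩ := QuotientGroup.mk'_surjective P2 r
      exact (hcore q x hx).1 r
    -- everything lifts to fixed elements
    let Fb : Subgroup R := (centralizer (zpowers b : Set S)).subgroupOf R ⊔ P2
    have hall : ∀ x : R, x ∈ Fb := by
      have hF : Cfsg.fittingSubgroup (R ⧸ P2) ≤ Fb.map π := by
        rw [Coprime.fitting_eq_iSup_pCore]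
        refine iSup_le fun q x hx => ?_
        obtain ⟨x, rfl⟩ := QuotientGroup.mk'_surjective P2 x
        obtain ⟨c, hc, e⟩ := (hcore q x hx).2
        exact ⟨c, mem_sup_left (Subgroup.mem_subgroupOf.2 (C.fixed_zpowers hc)), e⟩
      intro x
      have hxF : π x ∈ Cfsg.fittingSubgroup (R ⧸ P2) := CfsgLib.Coprime.centralizer_fitting_le
        (Subgroup.mem_centralizer_iff.2 fun f hf => (Subgroup.mem_center_iff.1 (hFc hf) (π x)).symm)
      obtain ⟨c, hc, e⟩ := Subgroup.mem_map.1 (hF hxF)
      have hd : c⁻¹ * x ∈ P2 := QuotientGroup.eq.1 e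
      rw [show x = c * (c⁻¹ * x) by group]
      exact mul_mem hc (mem_sup_right hd)
    have hcommU : R ≤ U := by
      conv_lhs => rw [← C.comm]
      rw [commutator_le]
      intro r hr y hy
      obtain ⟨c, hc, d, hd, hcd⟩ := Subgroup.mem_sup_of_normal_right.1 (hall ⟨r, hr⟩)
      have hcd' : (c : S) * (d : S) = r := congrArg Subtype.val hcd
      rw [commutatorElement_def, ← hcd']
      have hyH : y ∈ R ⊔ zpowers b := le_sup_right (a := R) hy
      have hcy : y * (c : S) = (c : S) * y := Subgroup.mem_centralizer_iff.1 hc y hy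
      have hdU := hmodU.1 hd
      have e : (c : S) * d * y * ((c : S) * d)⁻¹ * y⁻¹ =
          (c : S) * ((d : S) * (y * (d : S)⁻¹ * y⁻¹)) * (c : S)⁻¹ := by
        have e2 : (c : S)⁻¹ * y⁻¹ = y⁻¹ * (c : S)⁻¹ := by
          rw [← mul_inv_rev, ← mul_inv_rev, hcy]
        calc (c : S) * d * y * ((c : S) * d)⁻¹ * y⁻¹ = (c : S) * d * y * (d : S)⁻¹ * ((c : S)⁻¹ * y⁻¹) := by group
          _ = _ := by rw [e2]; group
      rw [e]
      exact (mem_normalizer_iff.1 (hUn (le_sup_left (b := zpowers b) c.2)) _).1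
        (mul_mem hdU ((mem_normalizer_iff.1 (hUn hyH) _).1 (inv_mem hdU)))
    intro x
    exact hmodU.2 (hcommU x.2)
  -- hence the four group gives a moved elementary abelian subgroup
  have hRU : R ≤ U := fun x hx => ⟨⟨x, hx⟩, hU' _, rfl⟩
  have hcentU : ∀ c ∈ ⁅U, U⁆, ∀ y ∈ R, c * y = y * c := fun c hc y hy =>
    (hder y (le_sup_left (b := zpowers b) hy) c hc).symm
  have hUUR : ⁅U, U⁆ ≤ R := (commutator_le_self U).trans hUR
  have hQR' : ∀ x ∈ Q, ∀ y ∈ R, ⁅x, y⁆ ∈ ⁅U, U⁆ := fun x hx y hy =>
    commutator_mem_commutator (hRU (C.QR hx)) (hRU hy)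
  -- `[U, U]` has exponent two on the commutators with `Q`
  let W' : Subgroup S := Q ⊔ closure {c | ∃ x ∈ Q, ∃ y ∈ R, ⁅x, y⁆ = c}
  let D : Subgroup S := closure {c | ∃ x ∈ Q, ∃ y ∈ R, ⁅x, y⁆ = c}
  have hD : D ≤ ⁅U, U⁆ := (closure_le _).2 fun c ⟨x, hx, y, hy, e⟩ => e ▸ hQR' x hx y hy
  have hDexp : ∀ c ∈ D, c ^ 2 = 1 := by
    intro c hc
    induction hc using Subgroup.closure_induction with
    | mem c hc =>
      obtain ⟨x, hx, y, hy, rfl⟩ := hc
      have hz := hcentU _ (hQR' x hx y hy) x (C.QR hx)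
      have h2 : x * x = 1 := by rw [← pow_two]; exact C.Qexp x hx
      have hx' : x⁻¹ = x := inv_eq_of_mul_eq_one_right h2
      rw [pow_two]
      have ec : ⁅x, y⁆ = x * (y * x * y⁻¹) := by
        rw [commutatorElement_def, hx']; group
      have h2' : y * x * y⁻¹ * (y * x * y⁻¹) = 1 := by
        rw [show y * x * y⁻¹ * (y * x * y⁻¹) = y * (x * x) * y⁻¹ by group, h2]; group
      rw [ec] at hz ⊢
      set x' := y * x * y⁻¹
      rw [show x * (x * x') = (x * x) * x' by group, h2, one_mul] at hz
      have hcomm : x * x' = x' * x := by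
        calc x * x' = x * x' * (x * x) := by rw [h2, mul_one]
          _ = (x * x' * x) * x := by group
          _ = x' * x := by rw [hz]
      calc x * x' * (x * x') = x * (x' * x) * x' := by group
        _ = x * (x * x') * x' := by rw [hcomm]
        _ = x * x * (x' * x') := by group
        _ = 1 := by rw [h2, h2', mul_one]
    | one => exact one_pow 2
    | mul c d hc' hd' ec ed =>
      rw [Commute.mul_pow (hcentU c (hD hc') d (hUUR (hD hd'))), ec, ed, one_mul]
    | inv c _ ec => rw [inv_pow, ec, inv_one]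
  have hWmem : ∀ t ∈ W', ∃ x ∈ Q, ∃ c ∈ D, x * c = t := fun t ht => by
    have hn : D ≤ normalizer (Q : Set S) := fun c hc => mem_normalizer_iff.2 fun x => ⟨
      fun hx => by rw [hcentU c (hD hc) x (C.QR hx), mul_inv_cancel_right]; exact hx,
      fun hx => by
        have h := hcentU c (hD hc) _ (C.QR hx)
        rw [show c * (c * x * c⁻¹) = c * (c * x * c⁻¹) from rfl, inv_mul_cancel_right] at h
        rwa [mul_left_cancel h] at hx⟩
    have h : t ∈ ((Q ⊔ D : Subgroup S) : Set S) := ht
    rw [Subgroup.coe_mul_of_right_le_normalizer_left Q D hn] at h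
    exact h
  have hWab : ∀ s ∈ W', ∀ t ∈ W', s * t = t * s := by
    intro s hs t ht
    obtain ⟨x, hx, c, hc, rfl⟩ := hWmem s hs
    obtain ⟨x', hx', c', hc', rfl⟩ := hWmem t ht
    have e1 := hcentU c (hD hc) x' (C.QR hx')
    have e2 := hcentU c' (hD hc') x (C.QR hx)
    have e3 := hcentU c (hD hc) c' (hUUR (hD hc'))
    calc x * c * (x' * c') = x * (c * x') * c' := by group
      _ = (x * x') * (c * c') := by rw [e1]; group
      _ = (x' * x) * (c' * c) := by rw [C.Qcomm x hx x' hx', e3]
      _ = x' * (x * c') * c := by group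
      _ = x' * c' * (x * c) := by rw [← e2]; group
  have hW'R : W' ≤ R := sup_le C.QR (hD.trans hUUR)
  obtain ⟨u, hu, hu1⟩ := C.Q_ne
  refine hu1 (C.Qfpf u hu (hB W' hW'R (fun t ht => ?_) hWab ?_ u (mem_sup_left hu)))
  · obtain ⟨x, hx, c, hc, rfl⟩ := hWmem t ht
    rw [Commute.mul_pow (hcentU c (hD hc) x (C.QR hx)).symm, C.Qexp x hx, hDexp c hc, one_mul]
  · refine sup_le ?_ (C.zpowers_le ?_)
    · intro r hr
      have key : ∀ r ∈ R, ∀ t ∈ W', r * t * r⁻¹ ∈ W' := by
        intro r hr t ht
        obtain ⟨x, hx, c, hc, rfl⟩ := hWmem t ht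
        have e : r * (x * c) * r⁻¹ = ⁅x, r⁆⁻¹ * x * c := by
          have hc' := hcentU c (hD hc) r⁻¹ (inv_mem hr)
          rw [show r * (x * c) * r⁻¹ = r * x * (c * r⁻¹) by group, hc']
          rw [commutatorElement_def]
          group
        rw [e]
        exact mul_mem (mul_mem (inv_mem (mem_sup_right (Subgroup.subset_closure ⟨x, hx, r, hr, rfl⟩)))
          (mem_sup_left hx)) (mem_sup_right hc)
      refine mem_normalizer_iff.2 fun t => ⟨key r hr t, fun ht => ?_⟩
      have h := key r⁻¹ (inv_mem hr) _ ht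
      rwa [show r⁻¹ * (r * t * r⁻¹) * r⁻¹⁻¹ = t by group] at h
    · have key : ∀ g, g ∈ normalizer (Q : Set S) → g ∈ normalizer (R : Set S) → ∀ t ∈ W', g * t * g⁻¹ ∈ W' := by
        intro g hgQ hgR t ht
        have hle : W'.map (MulAut.conj g).toMonoidHom ≤ W' := by
          rw [Subgroup.map_sup]
          refine sup_le ?_ ?_
          · rintro _ ⟨x, hx, rfl⟩; exact mem_sup_left ((mem_normalizer_iff.1 hgQ x).1 hx)
          · rw [MonoidHom.map_closure]
            refine (closure_le _).2 ?_
            rintro _ ⟨_, ⟨x, hx, y, hy, rfl⟩, rfl⟩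
            refine mem_sup_right (Subgroup.subset_closure ⟨g * x * g⁻¹, (mem_normalizer_iff.1 hgQ x).1 hx,
              g * y * g⁻¹, (mem_normalizer_iff.1 hgR y).1 hy, ?_⟩)
            simp [commutatorElement_def, mul_assoc]
        exact hle ⟨t, ht, rfl⟩
      refine mem_normalizer_iff.2 fun t => ⟨key b C.bQ C.bR t, fun ht => ?_⟩
      have h := key b⁻¹ (inv_mem C.bQ) (inv_mem C.bR) _ ht
      rwa [show b⁻¹ * (b * t * b⁻¹) * b⁻¹⁻¹ = t by group] at h

end CfsgLib.CubicBlock
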