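import Cfsg.Agent.Lib.CubicBlock.Mono
import Cfsg.Agent.Lib.CubicBlock.TwoCase

/-!
# Solvable groups with a central cubic block element and a four group
-/

set_option autoImplicit false
set_option linter.unusedSectionVars false
set_option linter.style.haveILetI false

namespace CfsgLib.CubicBlock

open Subgroup LinearMap
open scoped commutatorElement

variable {S : Type*} [Group S] [Finite S] {E : Type*} [AddCommGroup E] [Module (ZMod 3) E] [Finite E]

/-- The block hypothesis gives the rank bounds. -/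
theorem cubic_of_block (ρ : Representation (ZMod 3) S E) {b : S} (hb : b ^ 3 = 1)
    (E₀ E₁ : Submodule (ZMod 3) E) (htop : E₀ ⊔ E₁ = ⊤) (hE1 : ∀ v ∈ E₁, ρ b v = v)
    (hE0inv : ∀ v ∈ E₀, ρ b v ∈ E₀) (hE0 : Nat.card ↥E₀ = 27) : Cubic ρ b := by
  haveI : Module.Finite (ZMod 3) E := Module.Finite.of_finite
  set g : E →ₗ[ZMod 3] E := ρ b - 1 with hg
  have hd : Module.finrank (ZMod 3) E₀ = 3 := by
    have h := Module.natCard_eq_pow_finrank (K := ZMod 3) (V := E₀)
    rw [hE0, Nat.card_zmod] at h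
    exact (Nat.pow_right_injective (le_refl 2 |>.trans (by norm_num : 2 ≤ 3))
      (show 3 ^ 3 = 3 ^ Module.finrank (ZMod 3) E₀ from h)).symm
  have hgv : ∀ v, g v = ρ b v - v := fun v => by simp [hg]
  have hE1' : ∀ v ∈ E₁, g v = 0 := fun v hv => by rw [hgv, hE1 v hv, sub_self]
  have hmem : ∀ v ∈ E₀, g v ∈ E₀ := fun v hv => by rw [hgv]; exact sub_mem (hE0inv v hv) hv
  have hsplit : ∀ v, ∃ a ∈ E₀, g v = g a := fun v => by
    have hv : v ∈ E₀ ⊔ E₁ := htop ▸ Submodule.mem_top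
    obtain ⟨a, ha, c, hc, rfl⟩ := Submodule.mem_sup.1 hv
    exact ⟨a, ha, by rw [map_add, hE1' c hc, add_zero]⟩
  have hcube : ∀ v, g (g (g v)) = 0 := fun v => by
    have e : g (g (g v)) = ρ (b ^ 3) v - v - (3 : ℕ) • (ρ b (ρ b v) - ρ b v) := by
      simp only [hgv, map_sub, pow_succ, pow_zero, one_mul, rho_mul]
      abel
    rw [e, hb, map_one, Module.End.one_apply, sub_self, ← Nat.cast_smul_eq_nsmul (ZMod 3),
      show ((3 : ℕ) : ZMod 3) = 0 by decide, zero_smul, sub_zero]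
  -- a nilpotent map shrinks every nonzero invariant subspace
  have hshrink : ∀ P : Submodule (ZMod 3) E, P ≠ ⊥ → (∀ v ∈ P, g v ∈ P) →
      Module.finrank (ZMod 3) (P.map g) < Module.finrank (ZMod 3) P := by
    intro P hP hinv
    refine Submodule.finrank_lt_finrank_of_lt (lt_of_le_of_ne (by rintro _ ⟨v, hv, rfl⟩; exact hinv v hv) fun e => ?_)
    refine hP ((Submodule.eq_bot_iff _).2 fun v hv => ?_)
    rw [← e] at hv
    obtain ⟨v1, hv1, rfl⟩ := hv
    rw [← e] at hv1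
    obtain ⟨v2, hv2, rfl⟩ := hv1
    rw [← e] at hv2
    obtain ⟨v3, hv3, rfl⟩ := hv2
    exact hcube v3
  have hE00 : E₀ ≠ ⊥ := fun e => by rw [e, finrank_bot] at hd; omega
  have h1 := hshrink E₀ hE00 hmem
  have hr : range g = E₀.map g := le_antisymm (by
    rintro _ ⟨v, rfl⟩
    obtain ⟨a, ha, e⟩ := hsplit v
    exact ⟨a, ha, e.symm⟩) LinearMap.map_le_range
  refine ⟨hb, by rw [← hg, hr]; omega, ?_⟩
  have hn : range (norm3 ρ b) ≤ (E₀.map g).map g := by
    rintro _ ⟨v, rfl⟩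
    rw [norm3_eq]
    exact ⟨g v, hr ▸ ⟨v, rfl⟩, by rw [hgv, hgv]⟩
  refine (Submodule.finrank_mono hn).trans ?_
  by_cases h0 : E₀.map g = ⊥
  · rw [h0, Submodule.map_bot, finrank_bot]; omega
  · have h2 := hshrink _ h0 (by rintro _ ⟨v, hv, rfl⟩; exact ⟨g v, hmem v hv, rfl⟩)
    omega

/-- A central element of a Sylow `3`-subgroup lies over the `3`-core of the quotient. -/
theorem comm_Q_mem [Group.IsSolvable S] {b : S} (P : Sylow 3 S)
    (hbP : b ∈ (Subgroup.center ↥(P : Subgroup S)).map (P : Subgroup S).subtype) {x : S} {m : ℕ}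
    (hx : x ^ (2 ^ m) = 1) (hxb : (x * b * x⁻¹ * b⁻¹) ^ (2 ^ m) = 1) :
    x * b * x⁻¹ * b⁻¹ ∈ Cfsg.pPrimeCore 3 S := by
  haveI : Fact (Nat.Prime 3) := ⟨Nat.prime_three⟩
  set K := Cfsg.pPrimeCore 3 S
  haveI : K.Normal := by
    haveI := CfsgLib.Coprime.pPrimeCore_characteristic (G := S) 3
    infer_instance
  haveI : Group.IsSolvable (S ⧸ K) :=
    Group.isSolvable_of_surjective (f := QuotientGroup.mk' K) (QuotientGroup.mk'_surjective K)
  set π := QuotientGroup.mk' K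
  have h0 : Cfsg.pPrimeCore 3 (S ⧸ K) = ⊥ := CfsgLib.Coprime.pPrimeCore_quotient_eq_bot Nat.prime_three
  have hle : Cfsg.pCore 3 (S ⧸ K) ≤ (P.mapSurjective (f := π) (QuotientGroup.mk'_surjective K) : Subgroup (S ⧸ K)) :=
    Coprime.pCore_le_sylow _
  obtain ⟨c, hc, rfl⟩ := hbP
  have hbL : π (c : S) ∈ Cfsg.pCore 3 (S ⧸ K) := by
    refine CfsgLib.Coprime.centralizer_pCore_le h0 (Subgroup.mem_centralizer_iff.2 fun l hl => ?_)
    have hm := hle hl
    rw [Sylow.coe_mapSurjective] at hm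
    obtain ⟨p, hp, rfl⟩ := Subgroup.mem_map.1 hm
    have h := congrArg Subtype.val (Subgroup.mem_center_iff.1 hc ⟨p, hp⟩)
    show π p * π (c : S) = π (c : S) * π p
    rw [← map_mul, ← map_mul]
    exact congrArg π h
  haveI := Coprime.pCore_normal' (G := S ⧸ K) 3
  have hin : π (x * (c : S) * x⁻¹ * (c : S)⁻¹) ∈ Cfsg.pCore 3 (S ⧸ K) := by
    rw [map_mul, map_mul, map_mul, map_inv, map_inv]
    exact mul_mem ((inferInstance : (Cfsg.pCore 3 (S ⧸ K)).Normal).conj_mem _ hbL _) (inv_mem hbL)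
  obtain ⟨j, hj⟩ := Coprime.pCore_isPGroup 3 ⟨_, hin⟩
  have hj' : π (x * (c : S) * x⁻¹ * (c : S)⁻¹) ^ 3 ^ j = 1 := congrArg Subtype.val hj
  have hm' : π (x * (c : S) * x⁻¹ * (c : S)⁻¹) ^ 2 ^ m = 1 := by
    rw [← map_pow]; exact (congrArg π hxb).trans (map_one π)
  have := pow_gcd_eq_one.2 ⟨hj', hm'⟩
  rw [Nat.Coprime.pow j m (by norm_num : Nat.Coprime 3 2), pow_one] at this
  exact (QuotientGroup.eq_one_iff _).1 this

/-- The theorem. -/
theorem main [Group.IsSolvable S] (ρ : Representation (ZMod 3) S E) (hfaith : Function.Injective ρ)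
    (B : Subgroup S) (hB : Nat.card ↥B = 3) (b : S) (hb : Subgroup.zpowers b = B)
    (E₀ E₁ : Submodule (ZMod 3) E) (hE01' : E₀ ⊔ E₁ = ⊤)
    (hE1 : ∀ v ∈ E₁, ρ b v = v) (hE0inv : ∀ v ∈ E₀, ρ b v ∈ E₀) (hE0 : Nat.card ↥E₀ = 27)
    (Q : Subgroup S) (hQ : Cfsg.IsElementaryAbelian 2 Q) (hQ4 : Nat.card ↥Q = 4)
    (hBQ : B ≤ Subgroup.normalizer (Q : Set S)) (hBQ' : ¬ B ≤ Subgroup.centralizer (Q : Set S))
    (P : Sylow 3 S) (hBZ : (Subgroup.center ↥(P : Subgroup S)).map (P : Subgroup S).subtype = B) :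
    ((Cfsg.IsElementaryAbelian 2 ⁅Cfsg.pPrimeCore 3 S, B⁆ ∧ Nat.card ↥⁅Cfsg.pPrimeCore 3 S, B⁆ = 4) ∨
      (Cfsg.IsExtraspecial 2 ↥⁅Cfsg.pPrimeCore 3 S, B⁆ ∧ Nat.card ↥⁅Cfsg.pPrimeCore 3 S, B⁆ = 32 ∧
        ∃ A : Subgroup S, A ≤ ⁅Cfsg.pPrimeCore 3 S, B⁆ ∧ Cfsg.IsElementaryAbelian 2 A ∧ Nat.card ↥A = 8)) ∧
    ∃ F₀ F₁ : Submodule (ZMod 3) E, F₀ ⊓ F₁ = ⊥ ∧ F₀ ⊔ F₁ = ⊤ ∧
      (∀ r ∈ ⁅Cfsg.pPrimeCore 3 S, B⁆, ∀ v ∈ F₁, ρ r v = v) ∧ (∀ r ∈ ⁅Cfsg.pPrimeCore 3 S, B⁆ ⊔ B, ∀ v ∈ F₀, ρ r v ∈ F₀) ∧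
      (∀ r ∈ ⁅Cfsg.pPrimeCore 3 S, B⁆ ⊔ B, (∀ v ∈ F₀, ρ r v = v) → r = 1) ∧
      (∀ N : Submodule (ZMod 3) E, N ≤ F₀ → (∀ r ∈ ⁅Cfsg.pPrimeCore 3 S, B⁆ ⊔ B, ∀ v ∈ N, ρ r v ∈ N) → N = ⊥ ∨ N = F₀) := by
  classical
  subst hb
  haveI : Fact (Nat.Prime 3) := ⟨Nat.prime_three⟩
  have hob : orderOf b = 3 := by rw [← Nat.card_zpowers]; exact hB
  have hb3 : b ^ 3 = 1 := hob ▸ pow_orderOf_eq_one b
  set K := Cfsg.pPrimeCore 3 S
  haveI : K.Normal := by
    haveI := CfsgLib.Coprime.pPrimeCore_characteristic (G := S) 3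
    infer_instance
  have hK3 : ¬ 3 ∣ Nat.card K := CfsgLib.Coprime.pPrimeCore_not_dvd Nat.prime_three
  set R := ⁅K, zpowers b⁆ with hRdef
  have hRK : R ≤ K := commutator_le_left K (zpowers b)
  haveI := hQ.1
  have hQc : ∀ x ∈ Q, ∀ y ∈ Q, x * y = y * x := fun x hx y hy =>
    congrArg Subtype.val (hQ.1.is_comm.comm (⟨x, hx⟩ : Q) ⟨y, hy⟩)
  have hbQ : b ∈ normalizer (Q : Set S) := hBQ (mem_zpowers b)
  have hzK : zpowers b ≤ normalizer (K : Set S) := by rw [normalizer_eq_top_iff.2 inferInstance]; exact le_top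
  have hcop : (Nat.card (zpowers b)).Coprime (Nat.card K) := by
    rw [Nat.card_zpowers, hob]; exact Nat.prime_three.coprime_iff_not_dvd.2 hK3
  have hQ3 : ¬ 3 ∣ Nat.card Q := by rw [hQ4]; decide
  have hzQ : zpowers b ≤ normalizer (Q : Set S) := Subgroup.zpowers_le.2 hbQ
  have hcopQ : (Nat.card (zpowers b)).Coprime (Nat.card Q) := by
    rw [Nat.card_zpowers, hob]; exact Nat.prime_three.coprime_iff_not_dvd.2 hQ3
  -- `b` has no fixed point on `Q`
  have hQfpf : ∀ x ∈ Q, b * x = x * b → x = 1 := by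
    intro x hx e
    by_contra hx1
    refine hBQ' ?_
    have hxQ : b * x * b⁻¹ = x := mul_inv_eq_iff_eq_mul.2 e
    -- the two other involutions are swapped by an element of order three, so fixed
    intro y hy
    obtain ⟨k, rfl⟩ := mem_zpowers_iff.1 hy
    refine Subgroup.zpow_mem _ (Subgroup.mem_centralizer_iff.2 fun u hu => ?_) k
    set u' := b * u * b⁻¹ with hu'
    have hu'Q : u' ∈ Q := (mem_normalizer_iff.1 hbQ u).1 hu
    by_contra hne
    have hne' : u' ≠ u := fun e' => hne (mul_inv_eq_iff_eq_mul.1 e').symm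
    have hu1 : u ≠ 1 := fun e' => hne' (by rw [hu', e']; group)
    have hux : u ≠ x := fun e' => hne' (by rw [hu', e', hxQ])
    have hu'1 : u' ≠ 1 := fun e' => hu1 (by
      have := congrArg (fun t => b⁻¹ * t * b) e'
      simpa [hu', mul_assoc] using this)
    have hu'x : u' ≠ x := fun e' => hux (by
      have := congrArg (fun t => b⁻¹ * t * b) (e'.trans hxQ.symm)
      simpa [hu', mul_assoc] using this)
    set u'' := b * u' * b⁻¹ with hu''
    have hu''Q : u'' ∈ Q := (mem_normalizer_iff.1 hbQ u').1 hu'Q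
    have hu''1 : u'' ≠ 1 := fun e' => hu'1 (by
      have := congrArg (fun t => b⁻¹ * t * b) e'
      simpa [hu'', mul_assoc] using this)
    have hu''x : u'' ≠ x := fun e' => hu'x (by
      have := congrArg (fun t => b⁻¹ * t * b) (e'.trans hxQ.symm)
      simpa [hu'', mul_assoc] using this)
    have hu''u' : u'' ≠ u' := fun e' => hne' (by
      have := congrArg (fun t => b⁻¹ * t * b) e'
      simpa [hu'', hu', mul_assoc] using this)
    have hu''u : u'' ≠ u := fun e' => hne' (by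
      have h3 : b * u'' * b⁻¹ = u := by
        rw [hu'', hu', show b * (b * (b * u * b⁻¹) * b⁻¹) * b⁻¹ = b ^ 3 * u * (b ^ 3)⁻¹ by
          simp only [pow_succ, pow_zero, one_mul, mul_inv_rev, mul_assoc], hb3]
        group
      rw [e', ← hu'] at h3
      exact h3)
    let T5 : Finset S := {1, x, u, u', u''}
    have hT5 : T5.card = 5 := by
      simp [T5, Ne.symm hx1, hu1.symm, hu'1.symm, hu''1.symm, hux.symm, hu'x.symm, hu''x.symm,
        hne'.symm, hu''u.symm, hu''u'.symm]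
    have h5 := Nat.card_le_card_of_injective (fun z : T5 => (⟨z.1, by
      have := z.2
      simp only [T5, Finset.mem_insert, Finset.mem_singleton] at this
      rcases this with h | h | h | h | h <;> rw [h]
      exacts [one_mem _, hx, hu, hu'Q, hu''Q]⟩ : Q))
      fun y z e => Subtype.ext (congrArg (fun w : Q => (w : S)) e)
    rw [Nat.card_eq_fintype_card, Fintype.card_coe, hT5, hQ4] at h5
    omega
  -- `Q = [Q, b] ≤ R`
  have hQcomm : ⁅Q, zpowers b⁆ = Q := by
    have h := Coprime.commutator_sup_centralizer hzQ hcopQ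
      (Or.inl (Coprime.isSolvable_of_isMulCommutative inferInstance))
    rwa [show Q ⊓ centralizer (zpowers b : Set S) = ⊥ from (Subgroup.eq_bot_iff_forall _).2 fun x hx =>
      hQfpf x hx.1 (Subgroup.mem_centralizer_iff.1 hx.2 b (mem_zpowers b)), sup_bot_eq] at h
  have hQK : Q ≤ K := by
    intro x hx
    -- commutators with `b` cover `Q`
    let f : Q → Q := fun u => ⟨(u : S) * b * (u : S)⁻¹ * b⁻¹, by
      rw [show (u : S) * b * (u : S)⁻¹ * b⁻¹ = u * (b * (u : S)⁻¹ * b⁻¹) by group]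
      exact mul_mem u.2 ((mem_normalizer_iff.1 hbQ _).1 (inv_mem u.2))⟩
    have hf : Function.Injective f := fun u u' e => by
      have e' : (u : S) * b * (u : S)⁻¹ * b⁻¹ = (u' : S) * b * (u' : S)⁻¹ * b⁻¹ := congrArg Subtype.val e
      have e'' : (u : S) * b * (u : S)⁻¹ = (u' : S) * b * (u' : S)⁻¹ := mul_right_cancel e'
      refine Subtype.ext (inv_mul_eq_one.1 (hQfpf _ (mul_mem (inv_mem u'.2) u.2) ?_)).symm
      calc b * ((u' : S)⁻¹ * u) = (u' : S)⁻¹ * ((u' : S) * b * (u' : S)⁻¹) * u := by group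
        _ = (u' : S)⁻¹ * u * b := by rw [← e'']; group
    obtain ⟨u, hu⟩ := (Finite.injective_iff_surjective.1 hf) ⟨x, hx⟩
    have e : (u : S) * b * (u : S)⁻¹ * b⁻¹ = x := congrArg Subtype.val hu
    rw [← e]
    refine comm_Q_mem P ?_ (m := 1) ?_ ?_
    · rw [hBZ]; exact mem_zpowers b
    · simpa using hQ.2 u u.2
    · rw [e]; simpa using hQ.2 x hx
  have hQR : Q ≤ R := hQcomm.ge.trans (commutator_mono hQK le_rfl)
  have hsolK : Group.IsSolvable (zpowers b) ∨ Group.IsSolvable K := Or.inr inferInstance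
  have hbR : b ∈ normalizer (R : Set S) := by
    have := normalizer_commutator_ge_left (zpowers b) K (mem_zpowers b)
    rwa [commutator_comm] at this
  have C : Ctx ρ b R Q :=
    { faith := hfaith
      cubic := cubic_of_block ρ hb3 E₀ E₁ hE01' hE1 hE0inv hE0
      ordb := hob
      coprime := fun h => hK3 (h.trans (Subgroup.card_dvd_of_le hRK))
      sol := inferInstance
      bR := hbR
      comm := Coprime.commutator_commutator_eq hzK hcop hsolK
      QR := hQR
      Qcard := hQ4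
      Qexp := hQ.2
      Qcomm := hQc
      bQ := hbQ
      Qfpf := hQfpf }
  refine ⟨?_, mov ρ R, LinearMap.range (avg ρ R), ?_, ?_, ?_, fun r hr v hv => C.mov_R_invariant hr hv, ?_,
    fun N hN hinv => C.irreducible N hN (fun r hr => hinv r (le_sup_left (b := zpowers b) hr))
      (hinv b (le_sup_right (a := R) (mem_zpowers b)))⟩
  · by_cases hW : NoMoved ρ b R
    · exact absurd hW fun h => C.false_of_noMoved h
    · simp only [NoMoved, not_forall] at hW
      obtain ⟨W, hWR, hexp, hab, hn, w, hw, hne⟩ := hW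
      exact C.mono hWR hexp hab hw hne fun g hg => hn hg
  · refine (Submodule.eq_bot_iff _).2 ?_
    rintro v ⟨hv, u, rfl⟩
    exact eq_zero_of_mem_mov ρ R C.coprime hv fun w hw => rho_avg ρ R C.coprime hw u
  · refine eq_top_iff.2 fun v _ => Submodule.mem_sup.2 ⟨_, sub_avg_mem ρ R C.coprime v, _, ⟨v, rfl⟩, sub_add_cancel _ _⟩
  · rintro r hr _ ⟨u, rfl⟩
    exact rho_avg ρ R C.coprime hr u
  · -- faithfulness
    intro g hg hfix
    have hg' : g ∈ ((R ⊔ zpowers b : Subgroup S) : Set S) := hg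
    rw [Subgroup.coe_mul_of_right_le_normalizer_left R _ (C.zpowers_le C.bR)] at hg'
    obtain ⟨x, hx, y, hy, e⟩ := hg'
    obtain ⟨k, rfl⟩ := mem_zpowers_iff.1 hy
    have e' : x * b ^ k = g := e
    have hbk : ∀ v ∈ mov ρ R, ρ (b ^ k) v = ρ x⁻¹ v := fun v hv => by
      have := hfix v hv
      rw [← e', rho_mul] at this
      calc ρ (b ^ k) v = ρ x⁻¹ (ρ x (ρ (b ^ k) v)) := (rho_inv_apply ρ x _).symm
        _ = _ := by rw [this]
    by_cases hk : b ^ k = 1
    · rw [hk, mul_one] at e'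
      subst e'
      exact C.eq_one_of_fix hx hfix
    exfalso
    -- then `x` has order three on the commutator part
    have hx3 : x⁻¹ ^ 3 = 1 := by
      refine C.eq_one_of_fix (pow_mem (inv_mem hx) 3) fun v hv => ?_
      have h3 : ρ ((b ^ k) ^ 3) v = v := by
        rw [← zpow_natCast, ← zpow_mul, mul_comm k, zpow_mul, zpow_natCast, hb3, one_zpow, map_one]; rfl
      have hxm : ∀ u ∈ mov ρ R, ρ x⁻¹ u ∈ mov ρ R := fun u hu =>
        C.mov_R_invariant (le_sup_left (b := zpowers b) (inv_mem hx)) hu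
      rw [show (x⁻¹) ^ 3 = x⁻¹ * (x⁻¹ * x⁻¹) by rw [pow_three], rho_mul, rho_mul,
        ← hbk v hv, ← hbk _ (C.mov_R_invariant (le_sup_right (a := R) (Subgroup.zpow_mem _ (mem_zpowers b) k)) hv),
        ← hbk _ (C.mov_R_invariant (le_sup_right (a := R) (Subgroup.zpow_mem _ (mem_zpowers b) k))
          (C.mov_R_invariant (le_sup_right (a := R) (Subgroup.zpow_mem _ (mem_zpowers b) k)) hv)),
        ← rho_mul, ← rho_mul, mul_assoc, ← pow_three]
      exact h3
    have hx1 : x = 1 := by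
      have h1 : orderOf x⁻¹ ∣ 3 := orderOf_dvd_of_pow_eq_one hx3
      rcases (Nat.dvd_prime Nat.prime_three).1 h1 with h | h
      · exact inv_eq_one.1 (orderOf_eq_one_iff.1 h)
      · exact absurd (h ▸ Subgroup.orderOf_dvd_natCard R (inv_mem hx)) C.coprime
    -- so `b` fixes the commutator part
    have hbfix : ∀ v ∈ mov ρ R, ρ b v = v := by
      let Fx : Subgroup S :=
        { carrier := {g | g ∈ zpowers b ∧ ∀ v ∈ mov ρ R, ρ g v = v}
          one_mem' := ⟨one_mem _, by simp⟩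
          mul_mem' := fun {a c} ha hc => ⟨mul_mem ha.1 hc.1, fun v hv => by rw [rho_mul, hc.2 v hv, ha.2 v hv]⟩
          inv_mem' := fun {a} ha => ⟨inv_mem ha.1, fun v hv => by
            conv_lhs => rw [← ha.2 v hv]
            rw [rho_inv_apply]⟩ }
      have hkF : b ^ k ∈ Fx := ⟨Subgroup.zpow_mem _ (mem_zpowers b) k, fun v hv => by
        rw [hbk v hv, hx1, inv_one, map_one]; rfl⟩
      have hle : Fx ≤ zpowers b := fun a ha => ha.1
      have hcard := Subgroup.card_dvd_of_le hle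
      rw [Nat.card_zpowers, hob] at hcard
      rcases (Nat.dvd_prime Nat.prime_three).1 hcard with h | h
      · exfalso
        refine hk ?_
        have := Subgroup.eq_bot_of_card_eq _ h
        rw [this] at hkF
        exact Subgroup.mem_bot.1 hkF
      · have := Subgroup.eq_of_le_of_card_ge hle (by rw [h, Nat.card_zpowers, hob])
        have hbF : b ∈ Fx := this ▸ mem_zpowers b
        exact hbF.2
    obtain ⟨u, hu, hu1⟩ := C.Q_ne
    refine hu1 (C.eq_one_of_fix (C.QR hu) fun v hv => ?_)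
    have h := C.fixed_of_b (mov ρ R) ⊥ (fun r hr v hv => C.mov_R_invariant (le_sup_left (b := zpowers b) hr) hv)
      (fun r _ v hv => by rw [Submodule.mem_bot] at hv ⊢; rw [hv, map_zero])
      (fun v hv => C.mov_R_invariant (le_sup_right (a := R) (mem_zpowers b)) hv)
      (fun v hv => by rw [Submodule.mem_bot] at hv ⊢; rw [hv, map_zero])
      (fun v hv => by rw [hbfix v hv, sub_self]; exact zero_mem _) u (C.QR hu) v hv
    exact sub_eq_zero.1 ((Submodule.mem_bot (ZMod 3)).1 h)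

end CfsgLib.CubicBlock
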