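import Mathlib

/-!
# Conjugate three-cycles inside a solvable group
-/

set_option autoImplicit false
set_option linter.unusedSectionVars false

namespace CfsgLib.CubicBlock

open Equiv Equiv.Perm

theorem commutator_fin_five :
    ((swap 0 1 * swap 1 2 : Perm (Fin 5)) * (swap 0 3 * swap 3 4) * (swap 0 1 * swap 1 2)⁻¹ *
      (swap 0 3 * swap 3 4)⁻¹) ^ 3 = 1 := by
  decide +kernel

theorem even_fin_four : ∀ p : Perm (Fin 4), sign p = 1 → p ^ 2 = 1 ∨ p ^ 3 = 1 := by decide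

theorem even_fin_three : ∀ p : Perm (Fin 3), sign p = 1 → p ^ 3 = 1 := by decide

theorem regular_fin_four : ∀ (p : Perm (Fin 4)) (x : Fin 4), sign p = 1 → p ^ 2 = 1 → p x = x → p = 1 := by
  decide

theorem pair_fin_four : ∀ (p : Perm (Fin 4)), sign p = 1 → p ^ 2 = 1 → ∀ f : Fin 4 → ZMod 3,
    (∀ i, f i ^ 2 = 1) → ∏ i, f i = 1 → ∀ i j, f (p i) * f i = f (p j) * f j := by
  decide +kernel

variable {Ω : Type*} [Fintype Ω] [DecidableEq Ω]

/-- A point of a three-cycle starts a swap presentation. -/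
theorem eq_swaps {σ : Perm Ω} (h : σ.IsThreeCycle) {x : Ω} (hx : σ x ≠ x) :
    σ = swap x (σ x) * swap (σ x) (σ (σ x)) ∧ x ≠ σ x ∧ σ x ≠ σ (σ x) ∧ x ≠ σ (σ x) ∧
      σ.support = {x, σ x, σ (σ x)} := by
  have h3 : σ (σ (σ x)) = x := by
    have := congrArg (fun p : Perm Ω => p x) (h.orderOf ▸ pow_orderOf_eq_one σ)
    simpa [pow_succ] using this
  have h1 : σ x ≠ σ (σ x) := fun e => hx (σ.injective e).symm
  have h2 : x ≠ σ (σ x) := fun e => hx (by
    have := congrArg σ e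
    rwa [h3] at this)
  have hs : σ.support = {x, σ x, σ (σ x)} := by
    refine (Finset.eq_of_subset_of_card_le ?_ ?_).symm
    · intro y hy
      simp only [Finset.mem_insert, Finset.mem_singleton] at hy
      have hm : x ∈ σ.support := mem_support.2 hx
      rcases hy with rfl | rfl | rfl
      · exact hm
      · exact apply_mem_support.2 hm
      · exact apply_mem_support.2 (apply_mem_support.2 hm)
    · rw [h.card_support, Finset.card_eq_three.2 ⟨_, _, _, hx.symm, h2, h1, rfl⟩]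
  refine ⟨Equiv.ext fun y => ?_, hx.symm, h1, h2, hs⟩
  by_cases hy : y ∈ σ.support
  · rw [hs] at hy
    simp only [Finset.mem_insert, Finset.mem_singleton] at hy
    rcases hy with rfl | rfl | rfl
    · rw [Perm.mul_apply, swap_apply_of_ne_of_ne hx.symm h2, swap_apply_left]
    · rw [Perm.mul_apply, swap_apply_left, swap_apply_of_ne_of_ne h2.symm h1.symm]
    · rw [Perm.mul_apply, swap_apply_right, swap_apply_right, h3]
  · rw [notMem_support.1 hy]
    rw [hs] at hy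
    simp only [Finset.mem_insert, Finset.mem_singleton, not_or] at hy
    rw [Perm.mul_apply, swap_apply_of_ne_of_ne hy.2.1 hy.2.2, swap_apply_of_ne_of_ne hy.1 hy.2.1]

/-- Two three-cycles whose quotient and commutator avoid three meet in two points. -/
theorem two_le_inter {σ τ : Perm Ω} (hσ : σ.IsThreeCycle) (hτ : τ.IsThreeCycle)
    (hdiv : (τ * σ⁻¹) ^ 3 = 1 → τ * σ⁻¹ = 1)
    (hcom : (σ * τ * σ⁻¹ * τ⁻¹) ^ 3 = 1 → σ * τ * σ⁻¹ * τ⁻¹ = 1) :
    2 ≤ (σ.support ∩ τ.support).card := by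
  by_contra hlt
  rcases Nat.eq_zero_or_pos (σ.support ∩ τ.support).card with h0 | h0
  · have hd : Disjoint σ τ := Perm.disjoint_iff_disjoint_support.2
      (Finset.disjoint_iff_inter_eq_empty.2 (Finset.card_eq_zero.1 h0))
    have e3 : ∀ {ρ : Perm Ω}, ρ.IsThreeCycle → ρ ^ 3 = 1 := fun h => h.orderOf ▸ pow_orderOf_eq_one _
    have h3 : (τ * σ⁻¹) ^ 3 = 1 := by
      rw [(hd.commute.symm.inv_right).mul_pow, inv_pow, e3 hσ, e3 hτ]; group
    have hτσ : τ = σ := mul_inv_eq_one.1 (hdiv h3)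
    subst hτσ
    rw [Finset.inter_self, hσ.card_support] at h0
    omega
  obtain ⟨x, hx⟩ := Finset.card_eq_one.1 (show (σ.support ∩ τ.support).card = 1 by omega)
  have hxm : x ∈ σ.support ∧ x ∈ τ.support :=
    Finset.mem_inter.1 (hx ▸ Finset.mem_singleton_self x)
  obtain ⟨eσ, s1, s2, s3, hsσ⟩ := eq_swaps hσ (mem_support.1 hxm.1)
  obtain ⟨eτ, t1, t2, t3, hsτ⟩ := eq_swaps hτ (mem_support.1 hxm.2)
  have hsep : ∀ y ∈ σ.support, y ∈ τ.support → y = x := fun y h1 h2 => by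
    have := Finset.mem_inter.2 ⟨h1, h2⟩
    rwa [hx, Finset.mem_singleton] at this
  have ha : σ x ∈ σ.support := apply_mem_support.2 hxm.1
  have ha' : σ (σ x) ∈ σ.support := apply_mem_support.2 ha
  have hc : τ x ∈ τ.support := apply_mem_support.2 hxm.2
  have hc' : τ (τ x) ∈ τ.support := apply_mem_support.2 hc
  let f : Fin 5 ↪ Ω := ⟨![x, σ x, σ (σ x), τ x, τ (τ x)], by
    have n1 : σ x ≠ τ x := fun e => t1 ((hsep _ (e ▸ ha) hc).symm)
    have n2 : σ x ≠ τ (τ x) := fun e => t3 ((hsep _ (e ▸ ha) hc').symm)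
    have n3 : σ (σ x) ≠ τ x := fun e => t1 ((hsep _ (e ▸ ha') hc).symm)
    have n4 : σ (σ x) ≠ τ (τ x) := fun e => t3 ((hsep _ (e ▸ ha') hc').symm)
    refine List.nodup_ofFn.1 ?_
    simp [List.ofFn_succ, s1, s2, s3, t1, t2, t3, n1, n2, n3, n4]⟩
  have hswap : ∀ i j : Fin 5, Perm.viaEmbeddingHom f (swap i j) = swap (f i) (f j) := by
    intro i j
    refine Equiv.ext fun y => ?_
    rw [Perm.viaEmbeddingHom_apply]
    by_cases hy : y ∈ Set.range f
    · obtain ⟨k, rfl⟩ := hy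
      rw [Perm.viaEmbedding_apply, Equiv.swap_apply_def, Equiv.swap_apply_def]
      simp only [f.injective.eq_iff]
      split_ifs <;> rfl
    · rw [Perm.viaEmbedding_apply_of_notMem _ _ _ hy,
        swap_apply_of_ne_of_ne (fun e => hy ⟨i, e.symm⟩) (fun e => hy ⟨j, e.symm⟩)]
  have h5 := congrArg (Perm.viaEmbeddingHom f) commutator_fin_five
  simp only [map_pow, map_mul, map_inv, hswap,
    map_one] at h5
  have f0 : f 0 = x := rfl
  have f1 : f 1 = σ x := rfl
  have f2 : f 2 = σ (σ x) := rfl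
  have f3 : f 3 = τ x := rfl
  have f4 : f 4 = τ (τ x) := rfl
  simp only [f0, f1, f2, f3, f4] at h5
  rw [← eσ, ← eτ] at h5
  have h1 := hcom h5
  have hcm : σ * τ = τ * σ := by
    have := mul_inv_eq_one.1 h1
    exact mul_inv_eq_iff_eq_mul.1 this
  -- then `σ` moves `x` inside the support of `τ`
  have : σ x ∈ τ.support := by
    refine mem_support.2 fun e => mem_support.1 hxm.2 (σ.injective ?_)
    calc σ (τ x) = τ (σ x) := DFunLike.congr_fun hcm x
      _ = σ x := e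
  exact s1 (hsep _ ha this).symm

/-- A transitive invariant family of triples meeting in pairs lives on four points. -/
theorem card_le_four {H : Type*} [Group H] (act : H →* Perm Ω)
    (htrans : ∀ x y : Ω, ∃ h, act h x = y) (F : Finset (Finset Ω)) (hne : F.Nonempty)
    (h3 : ∀ T ∈ F, T.card = 3) (h2 : ∀ T ∈ F, ∀ U ∈ F, 2 ≤ (T ∩ U).card)
    (hinv : ∀ h, ∀ T ∈ F, T.image (act h) ∈ F) : Fintype.card Ω ≤ 4 := by
  obtain ⟨S0, hS0⟩ := hne
  obtain ⟨x0, hx0⟩ : S0.Nonempty := Finset.card_pos.1 (by rw [h3 S0 hS0]; norm_num)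
  have hcover : ∀ y, ∃ T ∈ F, y ∈ T := fun y => by
    obtain ⟨h, hh⟩ := htrans x0 y
    exact ⟨_, hinv h S0 hS0, Finset.mem_image.2 ⟨x0, hx0, hh⟩⟩
  by_contra hlt
  obtain ⟨l, hl⟩ : ∃ l, l ∉ S0 := by
    by_contra h
    push Not at h
    have h' := Finset.card_le_card (show Finset.univ ⊆ S0 from fun y _ => h y)
    rw [Finset.card_univ, h3 S0 hS0] at h'
    omega
  obtain ⟨S1, hS1, hlS1⟩ := hcover l
  have hI : (S0 ∩ S1).card = 2 := by
    have h' := h2 S0 hS0 S1 hS1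
    have h'' : (S0 ∩ S1).card ≤ (S1.erase l).card := Finset.card_le_card fun y hy => by
      obtain ⟨h0, h1⟩ := Finset.mem_inter.1 hy
      exact Finset.mem_erase.2 ⟨fun e => hl (e ▸ h0), h1⟩
    rw [Finset.card_erase_of_mem hlS1, h3 S1 hS1] at h''
    omega
  obtain ⟨m, hm⟩ : ∃ m, m ∉ S0 ∪ S1 := by
    by_contra h
    push Not at h
    have h' := Finset.card_le_card (show Finset.univ ⊆ S0 ∪ S1 from fun y _ => h y)
    have h'' := Finset.card_union_add_card_inter S0 S1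
    rw [Finset.card_univ] at h'
    rw [hI, h3 S0 hS0, h3 S1 hS1] at h''
    omega
  rw [Finset.mem_union, not_or] at hm
  obtain ⟨S2, hS2, hmS2⟩ := hcover m
  obtain ⟨i, j, hij, hIe⟩ := Finset.card_eq_two.1 hI
  have hiI : i ∈ S0 ∩ S1 := by rw [hIe]; simp
  have hjI : j ∈ S0 ∩ S1 := by rw [hIe]; simp
  obtain ⟨hi0, hi1⟩ := Finset.mem_inter.1 hiI
  obtain ⟨hj0, hj1⟩ := Finset.mem_inter.1 hjI
  -- a triple meeting `T` twice, with the third point outside, sees one point of any pair in `T`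
  have hmeet : ∀ {T U : Finset Ω}, T ∈ F → U ∈ F → ∀ {y z : Ω}, y ∈ T → z ∈ T → y ≠ z → y ∈ U ∨ z ∈ U := by
    intro T U hT hU y z hy hz hyz
    by_contra h
    rw [not_or] at h
    have h' : (T ∩ U).card ≤ ((T.erase y).erase z).card := Finset.card_le_card fun w hw => by
      obtain ⟨hwT, hwU⟩ := Finset.mem_inter.1 hw
      exact Finset.mem_erase.2 ⟨fun e => h.2 (e ▸ hwU), Finset.mem_erase.2 ⟨fun e => h.1 (e ▸ hwU), hwT⟩⟩
    rw [Finset.card_erase_of_mem (Finset.mem_erase.2 ⟨hyz.symm, hz⟩), Finset.card_erase_of_mem hy,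
      h3 T hT] at h'
    have := h2 T hT U hU
    omega
  obtain ⟨k, hk⟩ : ∃ k, k ∈ S0 ∧ k ∉ S1 := by
    by_contra h
    push Not at h
    have : S0 ∩ S1 = S0 := Finset.inter_eq_left.2 fun y hy => h y hy
    rw [this, h3 S0 hS0] at hI
    omega
  have h2ij : i ∈ S2 ∧ j ∈ S2 := by
    have hS2e : ∀ y z, y ∈ S2 → z ∈ S2 → y ≠ z → y ≠ m → z ≠ m → S2 = {y, z, m} := fun y z hy hz h hym hzm =>
      (Finset.eq_of_subset_of_card_le (by
        intro w hw
        simp only [Finset.mem_insert, Finset.mem_singleton] at hw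
        rcases hw with rfl | rfl | rfl
        exacts [hy, hz, hmS2]) (by rw [h3 S2 hS2, Finset.card_eq_three.2 ⟨_, _, _, h, hym, hzm, rfl⟩])).symm
    have hne : ∀ {w : Ω}, w ∈ S0 ∨ w ∈ S1 → w ≠ m := fun hw e => hw.elim (e ▸ hm.1) (e ▸ hm.2)
    have hlk : k ≠ l := fun e => hk.2 (e ▸ hlS1)
    have hki : k ≠ i := fun e => hk.2 (e ▸ hi1)
    have hkj : k ≠ j := fun e => hk.2 (e ▸ hj1)
    have hli : l ≠ i := fun e => hl (e ▸ hi0)
    have hlj : l ≠ j := fun e => hl (e ▸ hj0)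
    have aux : ∀ {p r : Ω}, p ∈ S0 → p ∈ S1 → r ∈ S0 → r ∈ S1 → p ≠ r → p ∉ S2 → False := by
      intro p r hp0 hp1 hr0 hr1 hpr hp
      have hr : r ∈ S2 := (hmeet hS0 hS2 hp0 hr0 hpr).resolve_left hp
      have hk2 : k ∈ S2 := (hmeet hS0 hS2 hp0 hk.1 fun e => hk.2 (e ▸ hp1)).resolve_left hp
      have hl2 : l ∈ S2 := (hmeet hS1 hS2 hp1 hlS1 fun e => hl (e ▸ hp0)).resolve_left hp
      have h := hS2e k l hk2 hl2 hlk (hne (Or.inl hk.1)) (hne (Or.inr hlS1))
      rw [h] at hr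
      simp only [Finset.mem_insert, Finset.mem_singleton] at hr
      rcases hr with rfl | rfl | rfl
      exacts [hk.2 hr1, hl hr0, hm.1 hr0]
    exact ⟨by_contra fun h => aux hi0 hi1 hj0 hj1 hij h, by_contra fun h => aux hj0 hj1 hi0 hi1 hij.symm h⟩
  have hall : ∀ T ∈ F, i ∈ T ∧ j ∈ T := by
    intro T hT
    have aux : ∀ {p r : Ω}, p ∈ S0 → p ∈ S1 → p ∈ S2 → p ∉ T → r ∈ S0 → r ∈ S1 → p ≠ r → False := by
      intro p r hp0 hp1 hp2 hp hr0 hr1 hpr
      have hk2 : k ∈ T := (hmeet hS0 hT hp0 hk.1 fun e => hk.2 (e ▸ hp1)).resolve_left hp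
      have hl2 : l ∈ T := (hmeet hS1 hT hp1 hlS1 fun e => hl (e ▸ hp0)).resolve_left hp
      have hm2 : m ∈ T := (hmeet hS2 hT hp2 hmS2 fun e => hm.1 (e ▸ hp0)).resolve_left hp
      have hr2 : r ∈ T := (hmeet hS0 hT hp0 hr0 hpr).resolve_left hp
      have hle : ({k, l, m, r} : Finset Ω).card ≤ T.card := Finset.card_le_card fun w hw => by
        simp only [Finset.mem_insert, Finset.mem_singleton] at hw
        rcases hw with rfl | rfl | rfl | rfl
        exacts [hk2, hl2, hm2, hr2]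
      have hlk : k ≠ l := fun e => hk.2 (e ▸ hlS1)
      have e1 : k ≠ m := fun e => hm.1 (e ▸ hk.1)
      have e2 : k ≠ r := fun e => hk.2 (e ▸ hr1)
      have e3 : l ≠ m := fun e => hm.2 (e ▸ hlS1)
      have e4 : l ≠ r := fun e => hl (e ▸ hr0)
      have e5 : m ≠ r := fun e => hm.1 (e ▸ hr0)
      have hc : ({k, l, m, r} : Finset Ω).card = 4 := by simp [hlk, e1, e2, e3, e4, e5]
      rw [hc, h3 T hT] at hle
      omega
    exact ⟨by_contra fun h => aux hi0 hi1 h2ij.1 h hj0 hj1 hij,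
      by_contra fun h => aux hj0 hj1 h2ij.2 h hi0 hi1 hij.symm⟩
  -- the common pair is invariant
  obtain ⟨h, hh⟩ := htrans m i
  have hi' : ∀ p : Ω, (∀ T ∈ F, p ∈ T) → p = i ∨ p = j := fun p hp => by
    have : p ∈ ({i, j} : Finset Ω) := hIe ▸ Finset.mem_inter.2 ⟨hp S0 hS0, hp S1 hS1⟩
    simpa using this
  have hm' : ∀ T ∈ F, m ∈ T := fun T hT => by
    have hmem := (hall _ (hinv h T hT)).1
    obtain ⟨y, hy, e⟩ := Finset.mem_image.1 hmem
    rwa [← (act h).injective (e.trans hh.symm)]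
  exact hm.1 (hm' S0 hS0)

end CfsgLib.CubicBlock
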