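import Cfsg.Agent.Lib.CubicBlock.Eigen
import Cfsg.Agent.Lib.CubicBlock.Perms
import Cfsg.Agent.Lib.Spor.ExtraspecialSubgroup

/-!
# The monomial case

With a moved elementary abelian normal `2`-subgroup the group is a four group on three lines or an
extraspecial group of order `32` on four lines.
-/

set_option autoImplicit false
set_option linter.unusedSectionVars false
set_option linter.style.haveILetI false

namespace CfsgLib.CubicBlock

open Subgroup LinearMap
open scoped commutatorElement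

theorem sign_count_three : Nat.card {f : Fin 3 → ZMod 3 // (∀ i, f i ^ 2 = 1) ∧ ∏ i, f i = 1} = 4 := by
  rw [Nat.card_eq_fintype_card]; decide

theorem sign_count_four : Nat.card {f : Fin 4 → ZMod 3 // (∀ i, f i ^ 2 = 1) ∧ ∏ i, f i = 1} = 8 := by
  rw [Nat.card_eq_fintype_card]; decide

theorem fixed_fin_four_zero : ∀ (σ : Equiv.Perm (Fin 4)) (f : Fin 4 → ZMod 3),
    (σ.support.card = 3 ∧ (∀ i, f i ^ 2 = 1) ∧ ∏ i, f i = 1 ∧ ∀ i, f (σ i) = f i) → ∀ i, f i = f 0 := by
  decide +kernel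

theorem fixed_fin_four (σ : Equiv.Perm (Fin 4)) (h : σ.support.card = 3) (f : Fin 4 → ZMod 3)
    (h1 : ∀ i, f i ^ 2 = 1) (h2 : ∏ i, f i = 1) (h3 : ∀ i, f (σ i) = f i) (i j : Fin 4) : f i = f j :=
  (fixed_fin_four_zero σ f ⟨h, h1, h2, h3⟩ i).trans (fixed_fin_four_zero σ f ⟨h, h1, h2, h3⟩ j).symm

theorem sq_cases : ∀ c : ZMod 3, c ≠ 0 → c = 1 ∨ c = -1 := by decide

theorem fixed_point_fin_four : ∀ (σ : Equiv.Perm (Fin 4)), σ.support.card = 3 →
    ∃ p, σ p = p ∧ ∀ i, σ i = i → i = p := by decide +kernel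

theorem separate_fin_four : ∀ i j : Fin 4, i ≠ j → ∃ f : Fin 4 → ZMod 3,
    (∀ k, f k ^ 2 = 1) ∧ (∏ k, f k = 1) ∧ f i ≠ f j := by decide +kernel

variable {S : Type*} [Group S] [Finite S] {E : Type*} [AddCommGroup E] [Module (ZMod 3) E] [Finite E]
  {ρ : Representation (ZMod 3) S E} {b : S} {R Q : Subgroup S} (C : Ctx ρ b R Q)

include C

/-- A character of the extension is trivial on `R`. -/
theorem Ctx.hom_R {A : Type*} [CommGroup A] (f : ↥(R ⊔ zpowers b) →* A) {r : S} (hr : r ∈ R) :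
    f ⟨r, le_sup_left (b := zpowers b) hr⟩ = 1 := by
  have hle : R ≤ f.ker.map (Subgroup.subtype _) := by
    conv_lhs => rw [← C.comm]
    rw [commutator_le]
    intro x hx y hy
    exact Subgroup.mem_map.2 ⟨⁅(⟨x, le_sup_left (b := zpowers b) hx⟩ : ↥(R ⊔ zpowers b)),
      ⟨y, le_sup_right (a := R) hy⟩⁆, by rw [MonoidHom.mem_ker, map_commutatorElement]; exact
        commutatorElement_eq_one_iff_mul_comm.2 (mul_comm _ _), rfl⟩
  obtain ⟨z, hz, e⟩ := Subgroup.mem_map.1 (hle hr)
  rw [show (⟨r, _⟩ : ↥(R ⊔ zpowers b)) = z from Subtype.ext e.symm]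
  exact hz

/-- The monomial case. -/
theorem Ctx.mono {W : Subgroup S} (hWR : W ≤ R) (hexp : ∀ w ∈ W, w ^ 2 = 1)
    (hab : ∀ x ∈ W, ∀ y ∈ W, x * y = y * x) {w₀ : S} (hw₀ : w₀ ∈ W) (hne : b * w₀ ≠ w₀ * b)
    (hWn : ∀ g ∈ R ⊔ zpowers b, g ∈ normalizer (W : Set S)) :
    (Cfsg.IsElementaryAbelian 2 R ∧ Nat.card R = 4) ∨
      (Cfsg.IsExtraspecial 2 R ∧ Nat.card R = 32 ∧
        ∃ A : Subgroup S, A ≤ R ∧ Cfsg.IsElementaryAbelian 2 A ∧ Nat.card A = 8) := by
  classical
  obtain ⟨n, v, act, hli, hspan, hmono, htrans, h3c⟩ := C.lines hWR hexp hab hw₀ hne hWn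
  set β : ↥(R ⊔ zpowers b) := ⟨b, le_sup_right (a := R) (mem_zpowers b)⟩ with hβ
  let ι : R →* ↥(R ⊔ zpowers b) := Subgroup.inclusion le_sup_left
  choose ε hε0 hεv using hmono
  have hv0 : ∀ i, v i ≠ 0 := fun i => hli.ne_zero i
  have huniq : ∀ {i : Fin n} {c d : ZMod 3}, c • v i = d • v i → c = d := fun {i c d} h => by
    rw [← sub_eq_zero, ← sub_smul] at h
    exact sub_eq_zero.1 ((smul_eq_zero.1 h).resolve_right (hv0 i))
  have hε2 : ∀ g i, ε g i ^ 2 = 1 := fun g i => by
    have : ∀ c : ZMod 3, c ≠ 0 → c ^ 2 = 1 := by decide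
    exact this _ (hε0 g i)
  have hεmul : ∀ g h i, ε (g * h) i = ε g (act h i) * ε h i := fun g h i => by
    refine huniq (i := act (g * h) i) ?_
    rw [← hεv (g * h) i, Subgroup.coe_mul, rho_mul, hεv h i, map_smul, hεv g (act h i), smul_smul,
      map_mul, Equiv.Perm.mul_apply, mul_comm]
  -- the two characters
  have hsign : ∀ r : R, Equiv.Perm.sign (act (ι r)) = 1 := by
    intro r
    have h := C.hom_R (Equiv.Perm.sign.comp act) r.2
    rw [MonoidHom.comp_apply] at h
    exact h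
  have hprod : ∀ r : R, ∏ i, ε (ι r) i = 1 := by
    intro r
    let P : ↥(R ⊔ zpowers b) →* ZMod 3 :=
      { toFun := fun g => ∏ i, ε g i
        map_one' := Finset.prod_eq_one fun i _ => huniq (i := i) (by
          have h := hεv 1 i
          rw [map_one, Equiv.Perm.one_apply, OneMemClass.coe_one, map_one] at h
          rw [one_smul]; exact h.symm)
        map_mul' := fun g h => by
          simp only [hεmul, Finset.prod_mul_distrib]
          rw [Equiv.prod_comp (act h) (ε g)] }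
    have h := C.hom_R P.toHomUnits r.2
    exact congrArg Units.val h
  have hdet : ∀ r r' : R, act (ι r) = act (ι r') → (∀ i, ε (ι r) i = ε (ι r') i) → r = r' := by
    intro r r' h1 h2
    refine Subtype.ext (inv_mul_eq_one.1 (C.eq_one_of_fix (mul_mem (inv_mem r'.2) r.2) fun u hu => ?_)).symm
    have hle : mov ρ R ≤ LinearMap.ker (ρ (r : S) - ρ (r' : S)) := by
      rw [← hspan, Submodule.span_le]
      rintro _ ⟨i, rfl⟩
      rw [SetLike.mem_coe, mem_ker, LinearMap.sub_apply, sub_eq_zero]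
      exact (hεv (ι r) i).trans (by rw [h1, h2]; exact (hεv (ι r') i).symm)
    have := hle hu
    rw [mem_ker, LinearMap.sub_apply, sub_eq_zero] at this
    rw [rho_mul, this, rho_inv_apply]
  -- orders
  have hcop3 : ∀ r : R, act (ι r) ^ 3 = 1 → act (ι r) = 1 := by
    intro r h
    have h1 : orderOf (act (ι r)) ∣ 3 := orderOf_dvd_of_pow_eq_one h
    have h2 : orderOf (act (ι r)) ∣ Nat.card R :=
      (orderOf_map_dvd (act.comp ι) r).trans (orderOf_dvd_natCard r)
    rcases (Nat.dvd_prime Nat.prime_three).1 h1 with e | e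
    · exact orderOf_eq_one_iff.1 e
    · exact absurd (e ▸ h2) C.coprime
  -- at most four lines
  have hn4 : n ≤ 4 := by
    let F : Finset (Finset (Fin n)) := Finset.univ.filter fun T =>
      ∃ g, T = (act (g * β * g⁻¹)).support
    have hcyc : ∀ g, (act (g * β * g⁻¹)).IsThreeCycle := fun g => by
      rw [map_mul, map_mul, map_inv, Equiv.Perm.IsThreeCycle, Equiv.Perm.cycleType_conj]
      exact h3c
    have hnorm : R ⊔ zpowers b ≤ normalizer (R : Set S) :=
      sup_le le_normalizer (C.zpowers_le C.bR)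
    have hdiff : ∀ g : ↥(R ⊔ zpowers b), (g : S) * b * (g : S)⁻¹ * b⁻¹ ∈ R := by
      intro g
      have hg : (g : S) ∈ ((R ⊔ zpowers b : Subgroup S) : Set S) := g.2
      rw [Subgroup.coe_mul_of_right_le_normalizer_left R _ (C.zpowers_le C.bR)] at hg
      obtain ⟨x, hx, y, hy, e⟩ := hg
      obtain ⟨k, rfl⟩ := mem_zpowers_iff.1 hy
      rw [← e]
      have hxb : x * b * x⁻¹ * b⁻¹ ∈ R := by
        rw [show x * b * x⁻¹ * b⁻¹ = x * (b * x⁻¹ * b⁻¹) by group]
        exact mul_mem hx ((mem_normalizer_iff.1 C.bR _).1 (inv_mem hx))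
      rw [show x * b ^ k * b * (x * b ^ k)⁻¹ * b⁻¹ = x * b * x⁻¹ * b⁻¹ by group]
      exact hxb
    have := card_le_four (Ω := Fin n) act htrans F ⟨_, Finset.mem_filter.2 ⟨Finset.mem_univ _, 1, rfl⟩⟩
      (fun T hT => by obtain ⟨g, rfl⟩ := (Finset.mem_filter.1 hT).2; exact (hcyc g).card_support)
      (fun T hT U hU => by
        obtain ⟨g, rfl⟩ := (Finset.mem_filter.1 hT).2
        obtain ⟨h, rfl⟩ := (Finset.mem_filter.1 hU).2
        set c := g * β * g⁻¹
        set d := h * β * h⁻¹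
        have hdc : (d : S) * (c : S)⁻¹ ∈ R := by
          have := mul_mem (hdiff h) (inv_mem (hdiff g))
          rwa [show (h : S) * b * (h : S)⁻¹ * b⁻¹ * ((g : S) * b * (g : S)⁻¹ * b⁻¹)⁻¹ =
            (d : S) * (c : S)⁻¹ by simp only [c, d, hβ, Subgroup.coe_mul, Subgroup.coe_inv]; group] at this
        have hcd : (c : S) * d * (c : S)⁻¹ * (d : S)⁻¹ ∈ R := by
          rw [show (c : S) * d * (c : S)⁻¹ * (d : S)⁻¹ =
            (c : S) * ((d : S) * (c : S)⁻¹) * (c : S)⁻¹ * ((d : S) * (c : S)⁻¹)⁻¹ by group]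
          exact mul_mem ((mem_normalizer_iff.1 (hnorm c.2) _).1 hdc) (inv_mem hdc)
        refine two_le_inter (hcyc g) (hcyc h) (fun e => ?_) fun e => ?_
        · have hh := hcop3 ⟨_, hdc⟩
          rw [show ι ⟨_, hdc⟩ = d * c⁻¹ from Subtype.ext rfl, map_mul, map_inv] at hh
          exact hh e
        · have hh := hcop3 ⟨_, hcd⟩
          rw [show ι ⟨_, hcd⟩ = c * d * c⁻¹ * d⁻¹ from Subtype.ext rfl, map_mul, map_mul, map_mul,
            map_inv, map_inv] at hh
          exact hh e)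
      (fun h T hT => by
        obtain ⟨g, rfl⟩ := (Finset.mem_filter.1 hT).2
        refine Finset.mem_filter.2 ⟨Finset.mem_univ _, h * g, ?_⟩
        rw [show h * g * β * (h * g)⁻¹ = h * (g * β * g⁻¹) * h⁻¹ by group]
        generalize g * β * g⁻¹ = U
        rw [map_mul, map_mul, map_inv, Equiv.Perm.support_conj, Finset.map_eq_image]
        rfl)
    simpa using this
  have hn3 : 3 ≤ n := by
    have := Finset.card_le_univ (act β).support
    rwa [h3c.card_support, Fintype.card_fin] at this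
  -- the diagonal part
  let D : Subgroup R := (act.comp ι).ker
  have hDcard : Nat.card D ≤ Nat.card {f : Fin n → ZMod 3 // (∀ i, f i ^ 2 = 1) ∧ ∏ i, f i = 1} := by
    refine Nat.card_le_card_of_injective (fun d => ⟨ε (ι d.1), hε2 _, hprod _⟩) fun d d' e => ?_
    exact Subtype.ext (hdet _ _ ((MonoidHom.mem_ker.1 d.2).trans (MonoidHom.mem_ker.1 d'.2).symm)
      fun i => congrFun (congrArg Subtype.val e) i)
  rcases (show n = 3 ∨ n = 4 by omega) with rfl | rfl
  · -- three lines
    left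
    have hR : ∀ r : R, r ∈ D := fun r =>
      MonoidHom.mem_ker.2 (hcop3 r (even_fin_three _ (hsign r)))
    have h4 : Nat.card R ≤ 4 := by
      rw [← sign_count_three]
      exact le_trans (le_of_eq (by rw [show D = ⊤ from eq_top_iff.2 fun r _ => hR r, Subgroup.card_top])) hDcard
    have hQR : Q = R := Subgroup.eq_of_le_of_card_ge C.QR (by rw [C.Qcard]; exact h4)
    refine ⟨⟨⟨⟨fun x y => Subtype.ext ?_⟩⟩, fun x hx => C.Qexp x (hQR ▸ hx)⟩, by rw [← hQR, C.Qcard]⟩
    exact C.Qcomm _ (hQR ▸ x.2) _ (hQR ▸ y.2)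
  -- four lines
  right
  haveI : Fact (Nat.Prime 2) := ⟨Nat.prime_two⟩
  haveI : Fact (Nat.Prime 3) := ⟨Nat.prime_three⟩
  have hsq : ∀ r : R, act (ι r) ^ 2 = 1 := fun r =>
    (even_fin_four _ (hsign r)).elim id fun h => by rw [hcop3 r h, one_pow]
  -- scalars
  let Sc : R → Prop := fun r => act (ι r) = 1 ∧ ∀ i j, ε (ι r) i = ε (ι r) j
  have hsqSc : ∀ r : R, Sc (r * r) := fun r => by
    have hι : ι (r * r) = ι r * ι r := map_mul ι r r
    refine ⟨by rw [hι, map_mul, ← pow_two, hsq], fun i j => ?_⟩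
    rw [hι, hεmul, hεmul]
    exact pair_fin_four _ (hsign r) (hsq r) _ (hε2 _) (hprod r) i j
  have hcent : ∀ z : R, Sc z → ∀ g ∈ R ⊔ zpowers b, (z : S) * g = g * z := by
    intro z ⟨hz1, hz2⟩ g hg
    have hn' : g * (z : S) * g⁻¹ ∈ R :=
      (mem_normalizer_iff.1 (sup_le le_normalizer (C.zpowers_le C.bR) hg) _).1 z.2
    have e : (z : R) = ⟨_, hn'⟩ := by
      set G' : ↥(R ⊔ zpowers b) := ⟨g, hg⟩
      have hc : ι ⟨_, hn'⟩ = G' * ι z * G'⁻¹ := Subtype.ext rfl
      refine hdet _ _ ?_ fun i => ?_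
      · rw [hc, map_mul, map_mul, hz1, mul_one, map_inv, mul_inv_cancel]
      · rw [hc, hεmul, hεmul, hz1, Equiv.Perm.one_apply, hz2 (act G'⁻¹ i) i, mul_right_comm, ← hεmul,
          mul_inv_cancel]
        have : ε 1 i = 1 := huniq (i := i) (by
          have h := hεv 1 i
          rw [map_one, Equiv.Perm.one_apply, OneMemClass.coe_one, map_one] at h
          rw [one_smul]; exact h.symm)
        rw [this, one_mul]
    have e' : (z : S) = g * z * g⁻¹ := congrArg Subtype.val e
    conv_lhs => rw [e', inv_mul_cancel_right]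
  have hcentR : ∀ z : R, Sc z → ∀ r : R, z * r = r * z := fun z hz r =>
    Subtype.ext (hcent z hz r (le_sup_left (b := zpowers b) r.2))
  have hScmul : ∀ {x y : R}, Sc x → Sc y → Sc (x * y) := fun {x y} hx hy => by
    refine ⟨by rw [map_mul, map_mul, hx.1, hy.1, mul_one], fun i j => ?_⟩
    rw [map_mul, hεmul, hεmul, hy.1, Equiv.Perm.one_apply, Equiv.Perm.one_apply, hx.2 i j, hy.2 i j]
  have hScinv : ∀ {x : R}, Sc x → Sc x⁻¹ := fun {x} hx => by
    have h4 : x⁻¹ = x := inv_eq_of_mul_eq_one_right (hdet _ _ (by rw [map_mul, map_mul, hx.1]; simp) fun i => by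
      rw [map_mul, hεmul, hx.1, Equiv.Perm.one_apply, ← pow_two, hε2]
      exact (huniq (i := i) (by
        have h := hεv (ι 1) i
        rw [map_one, map_one, Equiv.Perm.one_apply, OneMemClass.coe_one, map_one] at h
        rw [one_smul, map_one]; exact h.symm)).symm)
    rwa [h4]
  have hScone : Sc 1 := by
    have := hsqSc 1
    rwa [one_mul] at this
  have hScuniq : ∀ {x y : R}, Sc x → Sc y → x ≠ 1 → y ≠ 1 → x = y := fun {x y} hx hy hx1 hy1 => by
    have hval : ∀ {u : R}, Sc u → u ≠ 1 → ∀ i, ε (ι u) i = -1 := fun {u} hu hu1 i => by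
      refine (sq_cases _ (hε0 _ i)).resolve_left fun e => hu1 (hdet _ _ (by rw [hu.1, map_one, map_one]) fun j => ?_)
      rw [hu.2 j i, e]
      exact (huniq (i := j) (by
        have h := hεv (ι 1) j
        rw [map_one, map_one, Equiv.Perm.one_apply, OneMemClass.coe_one, map_one] at h
        rw [one_smul, map_one]; exact h.symm)).symm
    exact hdet _ _ (hx.1.trans hy.1.symm) fun i => by rw [hval hx hx1 i, hval hy hy1 i]
  have hcommSc : ∀ r s : R, Sc (r * s * r⁻¹ * s⁻¹) := by
    intro r s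
    have e : r * s * r⁻¹ * s⁻¹ = (r * s * (r * s)) * (r * r)⁻¹ * (s * s)⁻¹ := by
      have h := hcentR _ (hScinv (hsqSc r)) s⁻¹
      calc r * s * r⁻¹ * s⁻¹ = r * s * (r * s) * (s⁻¹ * (r * r)⁻¹) * s⁻¹ := by group
        _ = r * s * (r * s) * ((r * r)⁻¹ * s⁻¹) * s⁻¹ := by rw [h]
        _ = _ := by group
    rw [e]
    exact hScmul (hScmul (hsqSc _) (hScinv (hsqSc r))) (hScinv (hsqSc s))
  -- transitivity of `R`
  obtain ⟨p, hp, hpu⟩ := fixed_point_fin_four _ h3c.card_support
  have htrR : ∀ i, ∃ r : R, act (ι r) p = i := by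
    intro i
    obtain ⟨g, hg⟩ := htrans p i
    have hg' : (g : S) ∈ ((R ⊔ zpowers b : Subgroup S) : Set S) := g.2
    rw [Subgroup.coe_mul_of_right_le_normalizer_left R _ (C.zpowers_le C.bR)] at hg'
    obtain ⟨x, hx, y, hy, e⟩ := hg'
    obtain ⟨k, rfl⟩ := mem_zpowers_iff.1 hy
    refine ⟨⟨x, hx⟩, ?_⟩
    rw [← hg, show g = ι ⟨x, hx⟩ * β ^ k from Subtype.ext (by simp [ι, hβ, e]), map_mul,
      Equiv.Perm.mul_apply, map_zpow, Equiv.Perm.zpow_apply_eq_self_of_apply_eq_self hp]
  have hDidx : D.index = 4 := by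
    rw [Subgroup.index_ker]
    let f : ↥(act.comp ι).range → Fin 4 := fun q => (q : Equiv.Perm (Fin 4)) p
    have hf : Function.Bijective f := by
      refine ⟨?_, fun i => ?_⟩
      · rintro ⟨_, r, rfl⟩ ⟨_, s, rfl⟩ e
        refine Subtype.ext (inv_mul_eq_one.1 ?_).symm
        have h := regular_fin_four (act (ι (s⁻¹ * r))) p (hsign _) (hsq _) (by
          rw [map_mul, map_mul, Equiv.Perm.mul_apply, map_inv, map_inv, Equiv.Perm.inv_eq_iff_eq]
          exact e)
        simpa [map_mul, map_inv] using h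
      · obtain ⟨r, hr⟩ := htrR i
        exact ⟨⟨_, r, rfl⟩, hr⟩
    rw [Nat.card_eq_of_bijective f hf, Nat.card_fin]
  -- `R` is not abelian
  have hna : ∃ r s : R, r * s ≠ s * r := by
    by_contra hc
    push Not at hc
    haveI : IsMulCommutative R := ⟨⟨hc⟩⟩
    have hzero := Coprime.centralizer_inf_commutator_eq_bot (V := R) inferInstance (C.zpowers_le C.bR)
      (C.coprime_zpowers le_rfl)
    rw [C.comm] at hzero
    have hsc1 : ∀ z : R, Sc z → z = 1 := fun z hz => Subtype.ext (Subgroup.mem_bot.1 (hzero ▸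
      ⟨⟨z.2, C.fixed_zpowers (hcent z hz b (le_sup_right (a := R) (mem_zpowers b))).symm⟩, z.2⟩))
    have hD1 : ∀ d : R, act (ι d) = 1 → d = 1 := fun d hd => hsc1 d ⟨hd, fun i j => by
      have key : ∀ r : R, ε (ι d) (act (ι r) p) = ε (ι d) p := fun r => by
        have h := congrArg (fun u => ε (ι u) p) (hc d r)
        simp only [map_mul, hεmul, hd, Equiv.Perm.one_apply] at h
        rw [mul_comm] at h
        exact mul_left_cancel₀ (hε0 _ p) h
      obtain ⟨r, hr⟩ := htrR i
      obtain ⟨s, hs⟩ := htrR j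
      rw [← hr, ← hs, key r, key s]⟩
    haveI := Fintype.ofFinite R
    have hm : v p ∈ mov ρ R := hspan ▸ Submodule.subset_span ⟨p, rfl⟩
    have h0 : ∑ r : R, ε (ι r) p • v (act (ι r) p) = 0 := by
      have h := mem_ker.1 hm
      rw [avg_apply] at h
      rw [← (smul_eq_zero.1 h).resolve_left (inv_ne_zero (card_ne_zero R C.coprime))]
      exact Finset.sum_congr rfl fun r _ => (hεv (ι r) p).symm
    let τ : R → Fin 4 := fun r => act (ι r) p
    have hτ : Function.Injective τ := fun r s e => by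
      refine (inv_mul_eq_one.1 (hD1 (s⁻¹ * r) (regular_fin_four _ p (hsign _) (hsq _) ?_))).symm
      rw [map_mul, map_mul, Equiv.Perm.mul_apply, map_inv, map_inv, Equiv.Perm.inv_eq_iff_eq]
      exact e
    have := Fintype.linearIndependent_iff.1 (hli.comp τ hτ) (fun r : R => ε (ι r) p) h0 1
    exact hε0 _ _ this
  obtain ⟨r0, s0, hrs⟩ := hna
  set z := r0 * s0 * r0⁻¹ * s0⁻¹ with hz
  have hzSc : Sc z := hcommSc r0 s0
  have hz1 : z ≠ 1 := fun e => hrs (by
    rw [hz, mul_inv_eq_one, mul_inv_eq_iff_eq_mul] at e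
    exact e)
  have hz2 : orderOf z = 2 := orderOf_eq_prime (by
    rw [pow_two]
    by_contra h
    have e := hScuniq (hScmul hzSc hzSc) hzSc h hz1
    exact hz1 (mul_eq_left.1 e)) hz1
  -- a fixed element is a scalar
  have hfix : ∀ c : R, b * (c : S) = (c : S) * b → Sc c := by
    intro c hc
    have hcβ : ι c * β = β * ι c := Subtype.ext hc.symm
    have hperm : act (ι c) * act β = act β * act (ι c) := by rw [← map_mul, ← map_mul, hcβ]
    have hcp : act (ι c) p = p := hpu _ (by
      have := DFunLike.congr_fun hperm p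
      rw [Equiv.Perm.mul_apply, Equiv.Perm.mul_apply, hp] at this
      exact this.symm)
    have hc1 : act (ι c) = 1 := regular_fin_four _ p (hsign c) (hsq c) hcp
    refine ⟨hc1, fixed_fin_four _ h3c.card_support _ (hε2 _) (hprod c) fun i => ?_⟩
    have h := congrArg (fun u => ε u i) hcβ
    simp only [hεmul, hc1, Equiv.Perm.one_apply] at h
    rw [mul_comm (ε β i)] at h
    exact mul_right_cancel₀ (hε0 β i) h
  -- counting modulo three
  let cj : zpowers b → R → R := fun a r => ⟨(a : S) * r * (a : S)⁻¹,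
    (mem_normalizer_iff.1 (C.zpowers_le C.bR a.2) _).1 r.2⟩
  letI : MulAction (zpowers b) R :=
    { smul := cj
      one_smul := fun r => Subtype.ext (by show ((1 : zpowers b) : S) * r * ((1 : zpowers b) : S)⁻¹ = r; simp)
      mul_smul := fun a a' r => Subtype.ext (by
        show ((a * a' : zpowers b) : S) * r * ((a * a' : zpowers b) : S)⁻¹ =
          (a : S) * ((a' : S) * r * (a' : S)⁻¹) * (a : S)⁻¹
        simp [mul_assoc]) }
  have hmod : Nat.card R % 3 = 2 := by
    have hzp : IsPGroup 3 (zpowers b) := IsPGroup.of_card (n := 1) (by rw [Nat.card_zpowers, C.ordb, pow_one])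
    have h := hzp.card_modEq_card_fixedPoints R
    have hfp : MulAction.fixedPoints (zpowers b) R = {1, z} := by
      ext r
      constructor
      · intro h
        have hb : b * (r : S) * b⁻¹ = r := congrArg Subtype.val (h ⟨b, mem_zpowers b⟩)
        have hsc := hfix r (mul_inv_eq_iff_eq_mul.1 hb)
        by_cases h1 : r = 1
        · exact Or.inl h1
        · exact Or.inr (hScuniq hsc hzSc h1 hz1)
      · intro h a
        have hsc : Sc r := by rcases h with h | h <;> rw [h]; exacts [hScone, hzSc]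
        refine Subtype.ext ?_
        show (a : S) * r * (a : S)⁻¹ = r
        rw [← hcent r hsc a (le_sup_right (a := R) a.2), mul_inv_cancel_right]
    rw [hfp, Nat.card_coe_set_eq, Set.ncard_pair (Ne.symm hz1)] at h
    exact h
  have hRD : Nat.card R = Nat.card D * 4 := by rw [← hDidx, Subgroup.card_mul_index]
  have hDinv : ∀ d : R, d ∈ D → d * d = 1 := fun d hd => by
    have hd' : act (ι d) = 1 := hd
    refine hdet _ _ (by rw [map_mul, map_mul, hd', map_one, map_one, one_mul]) fun i => ?_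
    rw [map_mul, hεmul, hd', Equiv.Perm.one_apply, ← pow_two, hε2]
    exact (huniq (i := i) (by
      have h := hεv (ι 1) i
      rw [map_one, map_one, Equiv.Perm.one_apply, OneMemClass.coe_one, map_one] at h
      rw [one_smul, map_one]; exact h.symm)).symm
  have hR2 : IsPGroup 2 R := fun r => ⟨2, by
    have h1 := hsqSc r
    rw [show (2 : ℕ) ^ 2 = 2 * 2 from rfl, pow_mul, pow_two r, pow_two]
    exact hDinv _ (MonoidHom.mem_ker.2 h1.1)⟩
  have hD8 : Nat.card D ≤ 8 := sign_count_four ▸ hDcard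
  obtain ⟨k, hk⟩ := IsPGroup.iff_card.1 (hR2.to_subgroup D)
  have hk' : k = 1 ∨ k = 3 := by
    have hk3 : k ≤ 3 := (Nat.pow_le_pow_iff_right (le_refl 2)).1 (by rw [← hk]; exact hD8)
    rw [hRD, hk] at hmod
    interval_cases k <;> simp_all
  rcases hk' with rfl | rfl
  · -- order eight is abelian
    exfalso
    have hR8 : Nat.card R = 8 := by rw [hRD, hk]; norm_num
    have hzS : (z : S) ∉ Q := fun h => hz1 (Subtype.ext
      (C.Qfpf _ h (hcent z hzSc b (le_sup_right (a := R) (mem_zpowers b))).symm))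
    let f : (Q.subgroupOf R) × zpowers z → R := fun q => (q.1 : R) * (q.2 : R)
    have hdis : Disjoint (Q.subgroupOf R) (zpowers z) := by
      rw [disjoint_iff, Subgroup.eq_bot_iff_forall]
      intro x hx
      obtain ⟨hx1, hx2⟩ := Subgroup.mem_inf.1 hx
      obtain ⟨m, rfl⟩ := mem_zpowers_iff.1 hx2
      rcases Int.even_or_odd m with ⟨l, rfl⟩ | ⟨l, rfl⟩
      · rw [← two_mul, zpow_mul, zpow_two, ← pow_two, ← hz2, pow_orderOf_eq_one, one_zpow]
      · exfalso
        refine hzS ?_
        have : z ^ (2 * l + 1) = z := by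
          rw [zpow_add, zpow_mul, zpow_two, ← pow_two, ← hz2, pow_orderOf_eq_one, one_zpow, one_mul, zpow_one]
        rw [this] at hx1
        exact Subgroup.mem_subgroupOf.1 hx1
    have hf : Function.Bijective f := by
      refine (Nat.bijective_iff_injective_and_card f).2 ⟨Subgroup.mul_injective_of_disjoint hdis, ?_⟩
      rw [Nat.card_prod, Nat.card_zpowers, hz2, hR8,
        Nat.card_congr (Subgroup.subgroupOfEquivOfLe C.QR).toEquiv, C.Qcard]
    apply hrs
    obtain ⟨⟨⟨q, hq⟩, ⟨y, hy⟩⟩, e0⟩ := hf.2 r0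
    obtain ⟨⟨⟨q', hq'⟩, ⟨y', hy'⟩⟩, e1⟩ := hf.2 s0
    have hScz : ∀ w ∈ zpowers z, Sc w := by
      intro w hw
      obtain ⟨m, rfl⟩ := mem_zpowers_iff.1 hw
      rcases Int.even_or_odd m with ⟨l, rfl⟩ | ⟨l, rfl⟩
      · rw [← two_mul, zpow_mul, zpow_two, ← pow_two, ← hz2, pow_orderOf_eq_one, one_zpow]; exact hScone
      · rw [zpow_add, zpow_mul, zpow_two, ← pow_two, ← hz2, pow_orderOf_eq_one, one_zpow, one_mul, zpow_one]
        exact hzSc
    have hy1 := hcentR y (hScz y hy)
    have hy2 := hcentR y' (hScz y' hy')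
    have hqq : q * q' = q' * q := Subtype.ext (C.Qcomm _ hq _ hq')
    rw [← e0, ← e1]
    show q * y * (q' * y') = q' * y' * (q * y)
    calc q * y * (q' * y') = q * (y * q') * y' := by group
      _ = (q * q') * (y * y') := by rw [hy1 q']; group
      _ = (q' * q) * (y' * y) := by rw [hqq, hy1 y']
      _ = q' * (q * y') * y := by group
      _ = q' * y' * (q * y) := by rw [← hy2 q]; group
  -- order thirty two
  have hR32 : Nat.card R = 32 := by rw [hRD, hk]; norm_num
  have hall : ∀ f : Fin 4 → ZMod 3, (∀ i, f i ^ 2 = 1) → ∏ i, f i = 1 → ∃ d : R, d ∈ D ∧ ε (ι d) = f := by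
    intro f h1 h2
    have hbij : Function.Bijective fun d : D =>
        (⟨ε (ι d.1), hε2 _, hprod _⟩ : {f : Fin 4 → ZMod 3 // (∀ i, f i ^ 2 = 1) ∧ ∏ i, f i = 1}) :=
      (Nat.bijective_iff_injective_and_card _).2 ⟨fun d d' e => Subtype.ext (hdet _ _
        ((MonoidHom.mem_ker.1 d.2).trans (MonoidHom.mem_ker.1 d'.2).symm)
        fun i => congrFun (congrArg Subtype.val e) i), by rw [hk, sign_count_four]; norm_num⟩
    obtain ⟨d, hd⟩ := hbij.2 ⟨f, h1, h2⟩
    exact ⟨d.1, d.2, congrArg Subtype.val hd⟩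
  refine ⟨?_, hR32, D.map R.subtype, map_subtype_le D, ⟨⟨⟨?_⟩⟩, ?_⟩, ?_⟩
  · refine CfsgLib.Spor.LargeQ.isExtraspecial_sub (Q := R) hR2 le_rfl (z := (z : S)) ?_ z.2 ?_ ?_ ?_ ?_
    · rw [Subgroup.orderOf_coe, hz2]
    · intro a ha c hc
      by_cases h : (⟨a, ha⟩ : R) * ⟨c, hc⟩ * (⟨a, ha⟩ : R)⁻¹ * (⟨c, hc⟩ : R)⁻¹ = 1
      · exact Or.inl (congrArg Subtype.val h)
      · exact Or.inr (congrArg Subtype.val (hScuniq (hcommSc _ _) hzSc h hz1))
    · intro a ha
      by_cases h : (⟨a, ha⟩ : R) * ⟨a, ha⟩ = 1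
      · exact Or.inl (congrArg Subtype.val h)
      · exact Or.inr (congrArg Subtype.val (hScuniq (hsqSc _) hzSc h hz1))
    · intro u hu
      constructor
      · intro hcu
        set U : R := ⟨u, hu⟩
        have hcom : ∀ d : R, U * d = d * U := fun d => Subtype.ext (hcu d d.2).symm
        have hact : act (ι U) = 1 := by
          refine regular_fin_four _ p (hsign U) (hsq U) ?_
          by_contra h
          obtain ⟨f, hf1, hf2, hf3⟩ := separate_fin_four _ _ h
          obtain ⟨d, hd, hdf⟩ := hall f hf1 hf2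
          have e := congrArg (fun w => ε (ι w) p) (hcom d)
          simp only [map_mul, hεmul, show act (ι d) = 1 from hd, Equiv.Perm.one_apply] at e
          rw [mul_comm, ← mul_comm (ε (ι U) p)] at e
          refine hf3 ?_
          rw [← hdf]
          have e' := mul_left_cancel₀ (hε0 (ι U) p) (e.trans (mul_comm _ _))
          exact e'.symm
        have hsc : Sc U := by
          refine ⟨hact, fun i j => ?_⟩
          have key : ∀ r : R, ε (ι U) (act (ι r) p) = ε (ι U) p := fun r => by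
            have h := congrArg (fun w => ε (ι w) p) (hcom r)
            simp only [map_mul, hεmul, hact, Equiv.Perm.one_apply] at h
            rw [mul_comm] at h
            exact mul_left_cancel₀ (hε0 _ p) h
          obtain ⟨r, hr⟩ := htrR i
          obtain ⟨s, hs⟩ := htrR j
          rw [← hr, ← hs, key r, key s]
        by_cases h : U = 1
        · exact Or.inl (congrArg Subtype.val h)
        · exact Or.inr (congrArg Subtype.val (hScuniq hsc hzSc h hz1))
      · rintro (rfl | rfl) s hs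
        · rw [one_mul, mul_one]
        · exact (hcent z hzSc s (le_sup_left (b := zpowers b) hs)).symm
    · exact ⟨r0, r0.2, s0, s0.2, fun e => hrs (Subtype.ext e)⟩
  · rintro ⟨_, a, ha, rfl⟩ ⟨_, c, hc, rfl⟩
    refine Subtype.ext ?_
    show ((a * c : R) : S) = ((c * a : R) : S)
    refine congrArg Subtype.val (show a * c = c * a from hdet _ _ ?_ fun i => ?_)
    · rw [map_mul, map_mul, map_mul, map_mul, show act (ι a) = 1 from ha, show act (ι c) = 1 from hc]
    · rw [map_mul, map_mul, hεmul, hεmul, show act (ι a) = 1 from ha, show act (ι c) = 1 from hc,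
        Equiv.Perm.one_apply, mul_comm]
  · rintro _ ⟨a, ha, rfl⟩
    rw [pow_two, ← map_mul, hDinv a ha, map_one]
  · rw [card_map_of_injective R.subtype_injective, hk]; norm_num

end CfsgLib.CubicBlock
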